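import Cfsg.Agent.SB.Tor.Semi
import Cfsg.Agent.ClassicalGeometry.WittQuad
import Cfsg.Agent.ClassicalGeometry.DiagNormal

/-!
# S5765, classical groups: rank one conjugators, orthogonal groups (helper90)

* `fix_line` (LA1) : if all blocks have rank at least two, `v` has three non-zero components and `r = qr κ v`, then every
  element of `St ∩ St ^ r` fixes the line of `v`.
* `mem_Iso_O`, `SL.quad`, `exists_refl` : orthogonal groups.
-/

set_option autoImplicit false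
set_option linter.unusedSectionVars false

namespace Cfsg.Agent.SB.Tor

open Cfsg Cfsg.Agent.DS.Cl Cfsg.Agent.DS.Cl.Fwd Module QuadraticMap

variable {K V : Type} [Field K] [Finite K] [AddCommGroup V] [Module K V] [Finite V] {h : HF K V}

/-- two independent vectors -/
def Ind (K : Type) {V : Type} [Field K] [AddCommGroup V] [Module K V] (x y : V) : Prop :=
  ∀ a b : K, a • x + b • y = 0 → a = 0 ∧ b = 0

theorem Ind.symm {x y : V} (H : Ind K x y) : Ind K y x := fun a b hab => (H b a (by rwa [add_comm])).symm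

theorem Ind.left_ne {x y : V} (H : Ind K x y) : x ≠ 0 := fun h0 =>
  one_ne_zero (H 1 0 (by rw [h0, smul_zero, zero_smul, add_zero])).1

theorem Ind.right_ne {x y : V} (H : Ind K x y) : y ≠ 0 := H.symm.left_ne

theorem Ind.add_ne {x y : V} (H : Ind K x y) : x + y ≠ 0 := fun h0 =>
  one_ne_zero (H 1 1 (by rwa [one_smul, one_smul])).1

theorem ind_of_ne {x y : V} (hx : x ≠ 0) (hy : ∀ c : K, y ≠ c • x) : Ind K x y := by
  intro a b hab
  have hb : b = 0 := by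
    by_contra hb
    refine hy (-(b⁻¹ * a)) ?_
    rw [neg_smul, mul_smul, eq_neg_of_add_eq_zero_left hab, smul_neg, neg_neg, smul_smul, inv_mul_cancel₀ hb, one_smul]
  rw [hb, zero_smul, add_zero] at hab
  exact ⟨(smul_eq_zero.1 hab).resolve_right hx, hb⟩

theorem Ind.add_right {x y : V} (H : Ind K x y) (t : K) : Ind K x (y + t • x) := by
  intro a b hab
  have h1 := H (a + b * t) b (by rw [← hab]; module)
  rw [h1.2, zero_mul, add_zero] at h1
  exact ⟨h1.1, by simpa using (H (a + b * t) b (by rw [← hab]; module)).2⟩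

theorem Ind.map {x y : V} (H : Ind K x y) (u : h.EBˣ) : Ind K (h.ap u x) (h.ap u y) := fun a b hab => H a b (by
  have h1 := congrArg (h.ap (u⁻¹ : h.EBˣ)) hab
  rwa [map_add, map_smul, map_smul, ap_inv_ap, ap_inv_ap, map_zero] at h1)

theorem exists_sep {v v' : V} (H : ∀ c : K, v ≠ c • v') : ∃ y, h.b y v' = 0 ∧ h.b y v ≠ 0 := by
  by_contra hcon
  push Not at hcon
  by_cases h0 : v' = 0
  · exact H 0 (by rw [zero_smul]; exact h.nondeg v fun u => hcon u (by rw [h0, h.zero_right]))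
  obtain ⟨z, hz⟩ := h.exists_ne h0
  refine H (h.τ (h.b z v / h.b z v')) (h.ext_right fun u => ?_)
  have h1 := hcon (u - (h.b u v' / h.b z v') • z) (by rw [h.sub_left, h.smul_left, div_mul_cancel₀ _ hz, sub_self])
  rw [h.sub_left, h.smul_left, sub_eq_zero] at h1
  rw [h.smul_right, h.τ_τ, h1]
  ring

/-- `v` has three non-zero components -/
def Three (h : HF K V) (D : Finset h.EB) (v : V) : Prop :=
  ∃ e₁ ∈ D, ∃ e₂ ∈ D, ∃ e₃ ∈ D, e₁ ≠ e₂ ∧ e₁ ≠ e₃ ∧ e₂ ≠ e₃ ∧ h.ap e₁ v ≠ 0 ∧ h.ap e₂ v ≠ 0 ∧ h.ap e₃ v ≠ 0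

/-- all blocks have rank at least two -/
def Big (h : HF K V) (D : Finset h.EB) : Prop := ∀ e ∈ D, ∃ x y, h.ap e x = x ∧ h.ap e y = y ∧ Ind K x y

theorem Three.ne {D : Finset h.EB} {v : V} (H : Three h D v) : v ≠ 0 := by
  obtain ⟨e, -, -, -, -, -, -, -, -, h1, -⟩ := H
  rintro rfl
  exact h1 (map_zero _)

theorem la0 {D : Finset h.EB} (hD : Fr D) (hB : Big h D) {v v' : V} (h3 : Three h D v) {w : h.EBˣ}
    (hw : ∀ e ∈ D, cj h.EB w e ∈ D) (h1 : ∀ x, ∃ a b : K, h.ap w x - x = a • v + b • v')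
    (h2 : ∃ x, h.ap w x - x = v) : False := by
  obtain ⟨e₁, m₁, e₂, m₂, e₃, m₃, n12, n13, n23, z₁, z₂, z₃⟩ := h3
  have hmv : ∀ e x, h.ap e x = x → h.ap (cj h.EB w e) (h.ap w x) = h.ap w x := fun e x hx => by
    rw [← h.ap_mul, cj_mul_eq, h.ap_mul, hx]
  by_cases hfix : ∀ e ∈ D, cj h.EB w e = e
  · obtain ⟨x, hx⟩ := h2
    have h4 : ∀ e ∈ D, ∃ a b : K, h.ap e v = a • v + b • v' := fun e he => by
      obtain ⟨a, b, hab⟩ := h1 (h.ap e x)
      refine ⟨a, b, ?_⟩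
      rw [← hab, ← hx, map_sub, ← h.ap_mul, ← h.ap_mul, ← cj_mul_eq, hfix e he]
    obtain ⟨a₁, b₁, h5⟩ := h4 e₁ m₁
    obtain ⟨a₂, b₂, h6⟩ := h4 e₂ m₂
    have i₁ : h.ap e₁ (h.ap e₁ v) = h.ap e₁ v := by rw [← h.ap_mul, hD.idem _ m₁]
    have i₂ : h.ap e₂ (h.ap e₂ v) = h.ap e₂ v := by rw [← h.ap_mul, hD.idem _ m₂]
    have h7 : b₂ • h.ap e₁ v - b₁ • h.ap e₂ v = (a₁ * b₂ - a₂ * b₁) • v := by rw [h5, h6]; module
    have h8 := congrArg (h.ap e₃) h7
    rw [map_sub, map_smul, map_smul, map_smul, Fr.ap_eq_zero h hD m₃ m₁ n13.symm i₁,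
      Fr.ap_eq_zero h hD m₃ m₂ n23.symm i₂, smul_zero, smul_zero, sub_zero] at h8
    rw [(smul_eq_zero.1 h8.symm).resolve_right z₃, zero_smul] at h7
    have h9 := congrArg (h.ap e₂) h7
    rw [map_sub, map_smul, map_smul, map_zero, Fr.ap_eq_zero h hD m₂ m₁ n12.symm i₁, i₂, smul_zero, zero_sub,
      neg_eq_zero] at h9
    rw [(smul_eq_zero.1 h9).resolve_right z₂, zero_smul, add_zero] at h5
    have h10 := congrArg (h.ap e₂) h5
    rw [map_smul, Fr.ap_eq_zero h hD m₂ m₁ n12.symm i₁] at h10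
    rw [(smul_eq_zero.1 h10.symm).resolve_right z₂, zero_smul] at h5
    exact z₁ h5
  push Not at hfix
  obtain ⟨e, he, hne⟩ := hfix
  obtain ⟨f, hf, hfe, hfe', hfv⟩ : ∃ f ∈ D, f ≠ e ∧ f ≠ cj h.EB w e ∧ h.ap f v ≠ 0 := by
    by_cases c₁ : e₁ ≠ e ∧ e₁ ≠ cj h.EB w e
    · exact ⟨e₁, m₁, c₁.1, c₁.2, z₁⟩
    by_cases c₂ : e₂ ≠ e ∧ e₂ ≠ cj h.EB w e
    · exact ⟨e₂, m₂, c₂.1, c₂.2, z₂⟩
    rw [not_and_or, not_not, not_not] at c₁ c₂
    refine ⟨e₃, m₃, ?_, ?_, z₃⟩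
    · rintro rfl
      exact n12 ((c₁.resolve_left n13).trans (c₂.resolve_left n23).symm)
    · rintro rfl
      exact n12 ((c₁.resolve_right n13).trans (c₂.resolve_right n23).symm)
  obtain ⟨x, y, hx, hy, hxy⟩ := hB e he
  obtain ⟨a₁, b₁, h5⟩ := h1 x
  obtain ⟨a₂, b₂, h6⟩ := h1 y
  have k₁ : ∀ z, h.ap e z = z → h.ap f (h.ap w z - z) = 0 := fun z hz => by
    rw [map_sub, Fr.ap_eq_zero h hD hf he hfe hz, Fr.ap_eq_zero h hD hf (hw e he) hfe' (hmv e z hz), sub_zero]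
  have k₂ : ∀ z, h.ap e z = z → h.ap e (h.ap w z - z) = -z := fun z hz => by
    rw [map_sub, Fr.ap_eq_zero h hD he (hw e he) hne.symm (hmv e z hz), hz, zero_sub]
  have h7 : b₂ • (h.ap w x - x) - b₁ • (h.ap w y - y) = (a₁ * b₂ - a₂ * b₁) • v := by rw [h5, h6]; module
  have h8 := congrArg (h.ap f) h7
  rw [map_sub, map_smul, map_smul, map_smul, k₁ x hx, k₁ y hy, smul_zero, smul_zero, sub_zero] at h8
  rw [(smul_eq_zero.1 h8.symm).resolve_right hfv, zero_smul] at h7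
  have h9 := congrArg (h.ap e) h7
  rw [map_sub, map_smul, map_smul, map_zero, k₂ x hx, k₂ y hy] at h9
  rw [(hxy (-b₂) b₁ (by rw [← h9]; module)).2, zero_smul, add_zero] at h5
  have h10 := congrArg (h.ap f) h5
  rw [k₁ x hx, map_smul] at h10
  rw [(smul_eq_zero.1 h10.symm).resolve_right hfv, zero_smul] at h5
  have h11 := k₂ x hx
  rw [h5, map_zero] at h11
  exact hxy.left_ne (neg_eq_zero.1 h11.symm)

/-- **LA1** -/
theorem fix_line {F : FR h.EB} {D : Finset h.EB} (hD : Fr D) (hB : Big h D) {v : V} (h3 : Three h D v) {κ : K}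
    (hκ : κ ≠ 0) {r : h.EBˣ} (hr : (r : h.EB) = qr h κ v) {γ : RingAut h.EB} (h1 : γ ∈ St F D)
    (h2 : (cj h.EB r)⁻¹ * γ * cj h.EB r ∈ St F D) (L : SL h γ) : ∃ c : K, L.g v = c • v := by
  by_contra hcon
  push Not at hcon
  have h4 : ∀ c : K, v ≠ c • L.g v := fun c hc => by
    have hc0 : c ≠ 0 := by
      rintro rfl
      exact h3.ne (by rw [hc, zero_smul])
    exact hcon c⁻¹ (by conv_rhs => rw [hc, smul_smul, inv_mul_cancel₀ hc0, one_smul])
  have h5 : cj h.EB (r⁻¹ * um γ r) ∈ St F D := by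
    rw [map_mul, map_inv, ← conj_cj]
    simpa only [mul_assoc] using mul_mem h2 (inv_mem h1)
  have h6 : ∀ x, h.ap (r⁻¹ * um γ r : h.EBˣ) x - x = (κ * h.b (h.ap (r⁻¹ * um γ r : h.EBˣ) x) v) • v +
      (-(L.σ κ / L.μ * h.b x (L.g v))) • L.g v := fun x => by
    have h7 : h.ap r (h.ap (r⁻¹ * um γ r : h.EBˣ) x) = h.ap (γ r) x := by
      rw [Units.val_mul, h.ap_mul, ap_ap_inv, um_val]
    rw [hr, L.map_qr, ap_qr, ap_qr, sub_eq_iff_eq_add] at h7
    conv_lhs => rw [h7]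
    module
  refine la0 hD hB h3 (fun e he => St.mem h5 he) (fun x => ⟨_, _, h6 x⟩) ?_
  obtain ⟨y, hy, hy'⟩ := exists_sep (h := h) h4
  have h7 := h6 y
  rw [hy, mul_zero, neg_zero, zero_smul, add_zero] at h7
  have h8 : κ * h.b (h.ap (r⁻¹ * um γ r : h.EBˣ) y) v ≠ 0 := fun h0 => by
    rw [h0, zero_smul, sub_eq_zero] at h7
    rw [h7] at h0
    exact mul_ne_zero hκ hy' h0
  exact ⟨(κ * h.b (h.ap (r⁻¹ * um γ r : h.EBˣ) y) v)⁻¹ • y, by
    rw [map_smul, ← smul_sub, h7, smul_smul, inv_mul_cancel₀ h8, one_smul]⟩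

section blocks

variable {e : h.EB}

theorem exists_ind (h2 : 2 ≤ Cl.rk h e) (he : e * e = e) {x : V} (hx : x ≠ 0) : ∃ y, h.ap e y = y ∧ Ind K x y := by
  by_contra hcon
  push Not at hcon
  have h1 : LinearMap.range (h.ap e) ≤ Submodule.span K {x} := by
    rintro _ ⟨y, rfl⟩
    by_contra hy
    refine hcon (h.ap e y) (by rw [← h.ap_mul, he]) (ind_of_ne hx fun c hc => hy ?_)
    rw [hc]
    exact Submodule.smul_mem _ _ (Submodule.mem_span_singleton_self x)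
  have h3 := Submodule.finrank_mono h1
  rw [finrank_span_singleton hx] at h3
  exact absurd (h2.trans h3) (by decide)

theorem exists_fix (he : e * e = e) (h0 : e ≠ 0) : ∃ x, h.ap e x = x ∧ x ≠ 0 := by
  by_contra hcon
  push Not at hcon
  exact h0 (h.ap_ext fun v => hcon _ (by rw [← h.ap_mul, he]))

theorem big_of {D : Finset h.EB} (hD : Fr D) (h2 : ∀ e ∈ D, 2 ≤ Cl.rk h e) : Big h D := fun e he => by
  obtain ⟨x, hx, hx0⟩ := exists_fix (hD.idem e he) (hD.ne e he)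
  obtain ⟨y, hy, hxy⟩ := exists_ind (h2 e he) (hD.idem e he) hx0
  exact ⟨x, y, hx, hy, hxy⟩

theorem span_two (h2 : Cl.rk h e = 2) {x y : V} (hx : h.ap e x = x) (hy : h.ap e y = y) (hxy : Ind K x y) {z : V}
    (hz : h.ap e z = z) : ∃ a b : K, a • x + b • y = z := by
  have : Module.Finite K V := Module.Finite.of_finite
  have h1 : Submodule.span K (Set.range ![x, y]) ≤ LinearMap.range (h.ap e) := by
    rw [Submodule.span_le]
    rintro _ ⟨i, rfl⟩
    fin_cases i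
    exacts [⟨x, hx⟩, ⟨y, hy⟩]
  have h3 := finrank_span_eq_card (LinearIndependent.pair_iff.2 hxy)
  have h4 := Submodule.eq_of_le_of_finrank_eq h1 (h3.trans h2.symm)
  have h5 : z ∈ Submodule.span K (Set.range ![x, y]) := h4 ▸ ⟨z, hz⟩
  rw [Matrix.range_cons, Matrix.range_cons, Matrix.range_empty, Set.union_empty, Set.singleton_union] at h5
  exact Submodule.mem_span_pair.1 h5

end blocks

section orth

variable {F : FR h.EB} {Q : QuadraticForm K V} (hO : Cl.IsO h F Q)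
include hO

theorem O_symm (u v : V) : h.b u v = h.b v u := by rw [hO.2.1, hO.2.1, polar_comm]

theorem O_add (u v : V) : Q (u + v) = Q u + Q v + h.b u v := by rw [hO.2.1]; exact QuadraticMap.map_add Q u v

theorem O_self (u : V) : h.b u u = 2 * Q u := by rw [hO.2.1, polar_self, two_smul, two_mul]

theorem O_eps [Nontrivial V] : h.ε = 1 := by
  obtain ⟨v, hv⟩ := exists_ne (0 : V)
  obtain ⟨u, hu⟩ := h.exists_ne hv
  have h1 := h.swap u v
  rw [hO.1, O_symm hO v u] at h1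
  exact mul_right_cancel₀ hu (by rw [← h1, one_mul])

theorem mem_L_O (x : h.EB) : x ∈ F.L ↔ ∀ v, h.b v (h.ap x v) = 0 := by
  have : Module.Finite K V := Module.Finite.of_finite
  rw [hO.2.2.1]
  constructor
  · rintro ⟨a, rfl⟩ v
    rw [h.ap_sub, h.sub_right, h.b_star, O_symm hO v, sub_self]
  · intro H
    obtain ⟨β, hβ⟩ := exists_half ((polarBilin Q).compl₂ (h.ap x)) fun v => by
      rw [← H v, hO.2.1]; rfl
    obtain ⟨a, ha⟩ := h.exists_op hO.1 β
    refine ⟨a, h.ap_ext fun v => h.ext_right fun u => ?_⟩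
    rw [h.ap_sub, h.sub_right, h.b_star, ha, O_symm hO (h.ap a u), ha, hβ, hO.2.1]
    rfl

theorem SL.quad {γ : RingAut h.EB} (L : SL h γ) (hγ : γ ∈ F.Aut) (v : V) : Q (L.g v) = L.μ * L.σ (Q v) := by
  have h1 := (mem_L_O hO _).1 hγ.2 (L.g v)
  rw [h.ap_sub, h.sub_right, L.conj, L.form, hO.2.2.2, hO.2.2.2, sub_eq_zero] at h1
  exact h1.symm

theorem mem_Iso_O (u : h.EBˣ) : u ∈ F.Iso ↔ ∀ v, Q (h.ap u v) = Q v := by
  have key : (u : h.EB) * star (u : h.EB) = 1 → ∀ v,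
      h.b (h.ap u v) (h.ap (u * F.l * star (u : h.EB) - F.l) (h.ap u v)) = Q v - Q (h.ap u v) := fun hu v => by
    rw [h.ap_sub, h.sub_right, h.ap_mul, h.ap_mul, ← star_eq_inv hu, ap_inv_ap, (h.unit_iff u).1 hu, hO.2.2.2,
      hO.2.2.2]
  constructor
  · intro hu v
    have h1 := (mem_L_O hO _).1 hu.2 (h.ap u v)
    rw [key hu.1, sub_eq_zero] at h1
    exact h1.symm
  · intro H
    have h1 : (u : h.EB) * star (u : h.EB) = 1 := (h.unit_iff u).2 fun x y => by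
      have h2 := O_add hO (h.ap u x) (h.ap u y)
      rw [← map_add, H, H, H, O_add hO] at h2
      exact (add_left_cancel h2).symm
    refine ⟨h1, (mem_L_O hO _).2 fun v => ?_⟩
    rw [← ap_ap_inv h u v, key h1, H, sub_self]

theorem witt_O {x y : V} (hx : x ≠ 0) (hy : y ≠ 0) (hxy : Q x = Q y) : ∃ u ∈ F.Iso, h.ap u x = y := by
  have : Module.Finite K V := Module.Finite.of_finite
  have h1 : ∀ v, (∀ u, polarBilin Q u v = 0) → v = 0 := fun v hv => h.nondeg v fun u => by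
    rw [hO.2.1]; exact hv u
  obtain ⟨g, hg, -, hgx⟩ := ClassicalGeometry.WittQuad.step Q
    ⟨fun v hv => h1 v fun u => (polar_comm Q u v).trans (hv u), h1⟩ ⊥ x y (by simpa) (by simpa) hxy
    (fun z hz => by rw [(Submodule.mem_bot K).1 hz, map_zero, map_zero])
  refine ⟨⟨h.eb g, h.eb g.symm, h.ap_ext g.apply_symm_apply, h.ap_ext g.symm_apply_apply⟩, ?_, hgx⟩
  exact (mem_Iso_O hO _).2 hg

theorem exists_reflU {v : V} (hv : Q v ≠ 0) : ∃ r ∈ F.Iso, (r : h.EB) = qr h (Q v)⁻¹ v := by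
  have : Nontrivial V := ⟨v, 0, fun h0 => hv (by rw [h0, map_zero])⟩
  have h1 := qr_form h (O_eps hO) (κ := (Q v)⁻¹) (v := v) (by
    rw [hO.1, O_self hO]
    field_simp
    ring)
  refine ⟨isoU h _ h1, (mem_Iso_O hO _).2 fun x => ?_, rfl⟩
  rw [isoU_val, ap_qr, sub_eq_add_neg, ← neg_smul, O_add hO, QuadraticMap.map_smul, h.smul_right, hO.1, smul_eq_mul]
  field_simp
  ring

variable {D : Finset h.EB} (hD : Fr D) {e : h.EB} (he : e ∈ D)
include hD he

theorem exists_nonsing : ∃ n, h.ap e n = n ∧ Q n ≠ 0 := by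
  by_contra hcon
  push Not at hcon
  obtain ⟨x, hx, hx0⟩ := exists_fix (hD.idem e he) (hD.ne e he)
  obtain ⟨u, hu, hux⟩ := Fr.exists_ne h hD he hx hx0
  have h1 := O_add hO u x
  rw [hcon u hu, hcon x hx, hcon _ (by rw [map_add, hu, hx]), zero_add, zero_add] at h1
  exact hux h1.symm

/-- binary forms are universal -/
theorem exists_val (h2 : Cl.rk h e = 2) (c : K) : ∃ w, h.ap e w = w ∧ Q w = c := by
  obtain ⟨n, hn, hQn⟩ := exists_nonsing hO hD he
  by_cases hK : (2 : K) = 0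
  · have : CharP K 2 := (CharP.charP_iff_prime_eq_zero Nat.prime_two).2 hK
    obtain ⟨t, ht⟩ := FiniteField.isSquare_of_char_two (ringChar.eq K 2) (c / Q n)
    refine ⟨t • n, by rw [map_smul, hn], ?_⟩
    rw [QuadraticMap.map_smul, ← ht, smul_eq_mul, div_mul_cancel₀ _ hQn]
  have hn0 : n ≠ 0 := fun h0 => hQn (by rw [h0, map_zero])
  obtain ⟨a, ha, hna⟩ := exists_ind h2.ge (hD.idem e he) hn0
  have h3 := hna.add_right (-(h.b a n / (2 * Q n)))
  set m := a + -(h.b a n / (2 * Q n)) • n with hm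
  have h4 : h.ap e m = m := by rw [hm, map_add, map_smul, ha, hn]
  have h5 : h.b m n = 0 := by
    rw [hm, h.add_left, h.smul_left, O_self hO, neg_mul, div_mul_cancel₀ _ (mul_ne_zero hK hQn), add_neg_cancel]
  have h6 : Q m ≠ 0 := fun h0 => by
    obtain ⟨u, hu, hum⟩ := Fr.exists_ne h hD he h4 h3.right_ne
    obtain ⟨s, t, rfl⟩ := span_two h2 hn h4 h3 hu
    rw [h.add_left, h.smul_left, h.smul_left, O_symm hO n, h5, O_self hO, h0] at hum
    simp at hum
  obtain ⟨x, y, hxy⟩ := ClassicalGeometry.DiagNormal.exists_mul_sq_add_mul_sq_eq hK hQn h6 c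
  refine ⟨x • n + y • m, by rw [map_add, map_smul, map_smul, hn, h4], ?_⟩
  rw [O_add hO, QuadraticMap.map_smul, QuadraticMap.map_smul, h.smul_left, h.smul_right, O_symm hO n, h5, ← hxy,
    smul_eq_mul, smul_eq_mul]
  ring

/-- a reflection is a possible conjugator -/
theorem exists_refl (h2 : Cl.rk h e = 2) {v : V} (hv : Q v ≠ 0) :
    ∃ r : h.EBˣ, (r : h.EB) = qr h (Q v)⁻¹ v ∧
      ∃ x ∈ F.S, ∀ s, x⁻¹ * s * x ∈ St F D → (cj h.EB r)⁻¹ * s * cj h.EB r ∈ St F D := by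
  obtain ⟨w, hw, hQw⟩ := exists_val hO hD he h2 (Q v)
  have hw0 : Q w ≠ 0 := hQw ▸ hv
  obtain ⟨k, hk, hkw⟩ := exists_reflU hO hw0
  obtain ⟨g, hg, hgw⟩ := witt_O hO (fun h0 => hw0 (by rw [h0, map_zero])) (fun h0 => hv (by rw [h0, map_zero])) hQw
  refine ⟨g * k * g⁻¹, ?_, exists_conj hg hk (cj_mem_St hk (by rw [hkw]; exact qr_comm h hD he hw _))⟩
  rw [Units.val_mul, Units.val_mul, hkw, qr_conj h hg.1, hgw, hQw]

end orth

end Cfsg.Agent.SB.Tor
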