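import Cfsg.Agent.SB.Cl.Defs
import Cfsg.Agent.DS.Cl.Basic
import Cfsg.Agent.H277.FC.SN
import Cfsg.Agent.Classification.SimpleIndex

/-!
# S5765, classical groups: tools for frames (helper90)

* `St F D` : the stabiliser of a finite set; `exists_conj` : conjugators in `T · St`; `good_of_four`.
* `SL h γ` : an automorphism of `h.EB` commuting with `star` is induced by a semisimilitude (`exists_SL`).
* `qr h κ v` : quasi-reflections and transvections `x ↦ x - κ b(x, v) v`.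
-/

set_option autoImplicit false
set_option linter.unusedSectionVars false

namespace Cfsg.Agent.SB.Tor

open Cfsg Cfsg.Agent.DS.Cl Cfsg.Agent.DS.Cl.Fwd Module
open scoped commutatorElement

section ring

variable {A : Type} [Ring A] [StarRing A]

/-- the stabiliser of a finite set -/
def St (F : FR A) (D : Finset A) : Subgroup (RingAut A) where
  carrier := {γ | γ ∈ F.Aut ∧ ∀ e, e ∈ D ↔ γ e ∈ D}
  mul_mem' := by
    rintro γ δ ⟨hγ, h1⟩ ⟨hδ, h2⟩
    exact ⟨mul_mem hγ hδ, fun e => (h2 e).trans (h1 _)⟩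
  one_mem' := ⟨one_mem _, fun _ => Iff.rfl⟩
  inv_mem' := by
    rintro γ ⟨hγ, h1⟩
    exact ⟨inv_mem hγ, fun e => by rw [h1 (γ⁻¹ e), ra_apply_inv]⟩

variable {F : FR A} {D : Finset A} {S : Subgroup (RingAut A)}

theorem St.aut {γ : RingAut A} (h : γ ∈ St F D) : γ ∈ F.Aut := h.1

theorem St.mem {γ : RingAut A} (h : γ ∈ St F D) {e : A} (he : e ∈ D) : γ e ∈ D := (h.2 e).1 he

theorem le_St (h1 : S ≤ F.Aut) (h2 : Inv S D) : S ≤ St F D := fun γ hγ =>
  ⟨h1 hγ, fun e => ⟨h2 γ hγ e, fun he => by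
    have h3 := h2 γ⁻¹ (inv_mem hγ) _ he
    rwa [ra_inv_apply] at h3⟩⟩

theorem mem_St_of_fix {γ : RingAut A} (h1 : γ ∈ F.Aut) (h2 : ∀ e ∈ D, γ e = e) : γ ∈ St F D :=
  ⟨h1, fun e => ⟨fun he => by rwa [h2 e he], fun he => by rwa [← γ.injective (h2 _ he)]⟩⟩

theorem cj_mem_St {u : Aˣ} (hu : u ∈ F.Iso) (h : ∀ e ∈ D, (u : A) * e = e * u) : cj A u ∈ St F D :=
  mem_St_of_fix (FR.cj_mem_Aut hu) fun e he => cj_eq_of_mul (h e he)

/-- the linear automorphisms fixing every member of `D` -/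
def Nt (F : FR A) (D : Finset A) : Subgroup (RingAut A) where
  carrier := {γ | γ ∈ F.Aut ∧ γ ∈ Lin A ∧ ∀ e ∈ D, γ e = e}
  mul_mem' := by
    rintro γ δ ⟨hγ, h0, h1⟩ ⟨hδ, h0', h2⟩
    exact ⟨mul_mem hγ hδ, mul_mem h0 h0', fun e he => by rw [ra_mul, h2 e he, h1 e he]⟩
  one_mem' := ⟨one_mem _, one_mem _, fun _ _ => rfl⟩
  inv_mem' := by
    rintro γ ⟨hγ, h0, h1⟩
    exact ⟨inv_mem hγ, inv_mem h0, fun e he => by
      conv_lhs => rw [← h1 e he]
      exact ra_inv_apply γ e⟩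

theorem Nt_le : Nt F D ≤ St F D := fun _ h => mem_St_of_fix h.1 h.2.2

theorem Nt_conj : ∀ s ∈ St F D, ∀ v ∈ Nt F D, s * v * s⁻¹ ∈ Nt F D := fun s hs v hv =>
  ⟨mul_mem (mul_mem hs.1 hv.1) (inv_mem hs.1), Lin_conj hv.2.1 s, fun e he => by
    rw [ra_mul, ra_mul, hv.2.2 _ (St.mem (inv_mem hs) he), ra_apply_inv]⟩

theorem cj_mem_Nt {u : Aˣ} (hu : u ∈ F.Iso) (h : ∀ e ∈ D, (u : A) * e = e * u) : cj A u ∈ Nt F D :=
  ⟨FR.cj_mem_Aut hu, cj_mem_Lin u, fun e he => cj_eq_of_mul (h e he)⟩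

/-- a conjugate of an element of `S` lies in `T S` -/
theorem exists_conj {g k : Aˣ} (hg : g ∈ F.Iso) (hk : k ∈ F.Iso) (hS : cj A k ∈ S) :
    ∃ x ∈ F.S, ∀ s, x⁻¹ * s * x ∈ S → (cj A (g * k * g⁻¹))⁻¹ * s * cj A (g * k * g⁻¹) ∈ S := by
  refine ⟨cj A ⁅g, k⁆, ⟨_, Subgroup.commutator_mem_commutator hg hk, rfl⟩, fun s hs => ?_⟩
  have h1 := mul_mem (mul_mem (inv_mem hS) hs) hS
  have e : cj A (g * k * g⁻¹) = cj A ⁅g, k⁆ * cj A k := by
    rw [← map_mul, commutatorElement_def, inv_mul_cancel_right]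
  rw [e]
  simpa only [mul_inv_rev, mul_assoc] using h1

theorem seven_le [Finite A] (H : Cl.Ctx F S) : 7 ≤ S.relIndex F.S := by
  have := H.simple
  have hfin : Finite (RingAut A) := Finite.of_injective (fun γ : RingAut A => (γ : A → A)) DFunLike.coe_injective
  have h1 : S.subgroupOf F.S ≠ ⊤ := by
    intro h
    have hle : F.S ≤ S := Subgroup.subgroupOf_eq_top.1 h
    have := H.solv
    exact H.noncomm ⟨⟨IsSimpleGroup.comm_iff_isSolvable.2
      (Group.isSolvable_of_isSolvable_injective (f := Subgroup.inclusion hle) (Subgroup.inclusion_injective hle))⟩⟩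
  have h2 := Classification.SimpleIndex.two_mul_card_dvd_factorial_index H.noncomm _ h1
  by_contra h3
  have h4 : (S.subgroupOf F.S).index ≤ 6 := Nat.lt_succ_iff.1 (not_le.1 h3)
  have h5 := (Nat.le_of_dvd (Nat.factorial_pos _) h2).trans (Nat.factorial_le h4)
  have h6 := H.big
  have h7 : Nat.factorial 6 = 720 := rfl
  omega

theorem good_of_four [Finite A] (H : Cl.Ctx F S) {S' : Subgroup (RingAut A)} (hS : S ≤ S') (h : Four F.S S') :
    Good F.S S := Or.inr (seven_of_four (h.mono hS) (seven_le H))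

/-- the trick with two elements -/
theorem four_of_trick' {S N : Subgroup (RingAut A)} (hS : S ≤ F.Aut) (hNS : N ≤ S)
    (hNn : ∀ s ∈ S, ∀ v ∈ N, s * v * s⁻¹ ∈ N) {x : RingAut A} (hx : x ∈ F.S)
    (hxN : ∀ v ∈ N, x⁻¹ * v * x ∈ S → v = 1) {v₁ v₂ : RingAut A} (h1 : v₁ ∈ N) (h2 : v₂ ∈ N)
    (hD : ∀ k ∈ S, k * v₁ * k⁻¹ = v₁ → k * v₂ * k⁻¹ = v₂ → k ∈ N) : Four F.S S :=
  ⟨x, hx, v₁ * x * v₁⁻¹, FR.conj_mem_S (hS (hNS h1)) hx, v₂ * x * v₂⁻¹, FR.conj_mem_S (hS (hNS h2)) hx,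
    fun s hs a0 a1 a2 => hxN s
      (hD s hs (trick_key hNS hNn hxN h1 h1 hs a0 a1) (trick_key hNS hNn hxN h2 h2 hs a0 a2)) a0⟩

/-- four members -/
theorem exists_four (h : D.card = 4) : ∃ e : Fin 4 → A, Function.Injective e ∧ ∀ a, a ∈ D ↔ ∃ i, e i = a := by
  let f := (D.equivFinOfCardEq h).symm
  refine ⟨fun i => f i, fun i j hij => f.injective (Subtype.ext hij), fun a => ⟨fun ha => ?_, ?_⟩⟩
  · exact ⟨f.symm ⟨a, ha⟩, by simp⟩
  · rintro ⟨i, rfl⟩
    exact (f i).2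

theorem exists_perm {e : Fin 4 → A} (he : Function.Injective e) (hD : ∀ a, a ∈ D ↔ ∃ i, e i = a) {γ : RingAut A}
    (hγ : γ ∈ St F D) : ∃ π : Fin 4 → Fin 4, Function.Injective π ∧ ∀ i, γ (e i) = e (π i) := by
  choose π hπ using fun i => (hD _).1 (St.mem hγ ((hD _).2 ⟨i, rfl⟩))
  exact ⟨π, fun i j hij => he (γ.injective (by rw [← hπ, ← hπ, hij])), fun i => (hπ i).symm⟩

end ring

section semi

variable {K V : Type} [Field K] [Finite K] [AddCommGroup V] [Module K V] [Finite V] (h : HF K V)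

/-- a semisimilitude inducing `γ` -/
structure SL (γ : RingAut h.EB) where
  /-- the field automorphism -/
  σ : K ≃+* K
  /-- the map -/
  g : V ≃+ V
  /-- the multiplier -/
  μ : K
  smul : ∀ (a : K) v, g (a • v) = σ a • g v
  conj : ∀ a v, h.ap (γ a) (g v) = g (h.ap a v)
  μ_ne : μ ≠ 0
  form : ∀ u v, h.b (g u) (g v) = μ * σ (h.b u v)

theorem exists_SL [Nontrivial V] {γ : RingAut h.EB} (hγ : γ ∈ SAut h.EB) : Nonempty (SL h γ) := by
  have : Module.Finite K V := Module.Finite.of_finite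
  obtain ⟨σ, g, hg, hc⟩ := H277.FC.exists_semilinear (K := K) (V := V) (W := V) γ
  have hc' : ∀ a v, h.ap (γ a) (g v) = g (h.ap a v) := hc
  let B : V → V →ₗ[K] K := fun v =>
    { toFun := fun u => σ.symm (h.b (g u) (g v))
      map_add' := fun u u' => by rw [map_add, h.add_left, map_add]
      map_smul' := fun c u => by rw [hg, h.smul_left, map_mul, σ.symm_apply_apply]; rfl }
  choose T hT using fun v => h.exists_rep (B v)
  have hT' : ∀ u v, h.b u (T v) = σ.symm (h.b (g u) (g v)) := fun u v => hT v u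
  have hcm : ∀ (a : h.EB) v, T (h.ap a v) = h.ap a (T v) := fun a v => h.ext_right fun u => by
    rw [hT', ← hc', ← h.star_b, ← hγ, hc', ← hT', h.star_b]
  let T' : End K V :=
    { toFun := T
      map_add' := fun v v' => h.ext_right fun u => by rw [h.add_right, hT', hT', hT', map_add, h.add_right, map_add]
      map_smul' := fun c v => hcm (h.eb (c • 1)) v }
  obtain ⟨c, hc1⟩ := H277.FC.exists_smul_one T' fun Y => LinearMap.ext fun v => hcm (h.eb Y) v
  have h1 : ∀ u v, h.b (g u) (g v) = σ (h.τ c) * σ (h.b u v) := fun u v => by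
    have h2 : T v = c • v := LinearMap.congr_fun hc1 v
    rw [← map_mul, ← h.smul_right, ← h2, hT', σ.apply_symm_apply]
  refine ⟨⟨σ, g, σ (h.τ c), hg, hc', fun h0 => ?_, h1⟩⟩
  obtain ⟨v, hv⟩ := exists_ne (0 : V)
  obtain ⟨u, hu⟩ := h.exists_ne hv
  obtain ⟨v, rfl⟩ := g.surjective v
  obtain ⟨u, rfl⟩ := g.surjective u
  rw [h1, h0, zero_mul] at hu
  exact hu rfl

omit [Finite K] [Finite V] in
theorem ap_sc (c : K) (v : V) : h.ap (h.eb (c • 1)) v = c • v := rfl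

omit [Finite K] [Finite V] in
theorem ap_zero (v : V) : h.ap 0 v = 0 := rfl

omit [Finite K] in
theorem exists_sc [Nontrivial V] {z : h.EB} (hz : z ∈ Subring.center h.EB) : ∃ c : K, ∀ v, h.ap z v = c • v := by
  have : Module.Finite K V := Module.Finite.of_finite
  obtain ⟨c, hc⟩ := H277.FC.exists_smul_one (K := K) (h.ap z) fun Y => (cen_comm hz (h.eb Y)).symm
  exact ⟨c, fun v => LinearMap.congr_fun hc v⟩

namespace SL

variable {h} {γ : RingAut h.EB} (L : SL h γ)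

theorem tau [Nontrivial V] (c : K) : h.τ (L.σ c) = L.σ (h.τ c) := by
  obtain ⟨v, hv⟩ := exists_ne (0 : V)
  obtain ⟨u, hu⟩ := h.exists_ne hv
  have h1 := L.form u (c • v)
  rw [L.smul, h.smul_right, h.smul_right, L.form, map_mul] at h1
  have h2 : L.μ * L.σ (h.b u v) ≠ 0 := mul_ne_zero L.μ_ne (by simpa using hu)
  apply mul_right_cancel₀ h2
  rw [h1]
  ring

theorem sigma_of_Lin [Nontrivial V] (hγ : γ ∈ Lin h.EB) (c : K) : L.σ c = c := by
  obtain ⟨v, hv⟩ := exists_ne (0 : V)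
  obtain ⟨v, rfl⟩ := L.g.surjective v
  have h1 := L.conj (h.eb (c • 1)) v
  rw [hγ _ (h.smul_mem_center c), ap_sc, ap_sc, L.smul] at h1
  exact (smul_left_injective K hv h1).symm

theorem mem_Lin [Nontrivial V] (hσ : ∀ c, L.σ c = c) : γ ∈ Lin h.EB := by
  intro z hz
  obtain ⟨c, hc⟩ := exists_sc h hz
  apply h.ap_ext
  intro v
  obtain ⟨v, rfl⟩ := L.g.surjective v
  rw [L.conj, hc, hc, L.smul, hσ]

theorem eq_one {c : K} (hc : ∀ v, L.g v = c • v) : γ = 1 := by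
  ext a
  apply h.ap_ext
  intro v
  obtain ⟨v, rfl⟩ := L.g.surjective v
  rw [L.conj, hc, hc, ra_one, map_smul]

theorem map_fix {a : h.EB} {v : V} (hv : h.ap a v = v) : h.ap (γ a) (L.g v) = L.g v := by rw [L.conj, hv]

end SL

omit [Finite K] in
theorem finrank_le_sum {D : Finset h.EB} (hD : ∑ e ∈ D, e = 1) : finrank K V ≤ ∑ e ∈ D, Cl.rk h e := by
  have : Module.Finite K V := Module.Finite.of_finite
  let f : V →ₗ[K] (∀ e : D, LinearMap.range (h.ap e)) := LinearMap.pi fun e => (h.ap e).rangeRestrict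
  have hf : Function.Injective f := by
    rw [injective_iff_map_eq_zero]
    intro v hv
    have h1 : h.ap (∑ e ∈ D, e) v = ∑ e ∈ D, h.ap e v := LinearMap.sum_apply D (fun e => h.ap e) v
    rw [hD, h.ap_one] at h1
    rw [h1]
    exact Finset.sum_eq_zero fun e he => congrArg Subtype.val (congrFun hv ⟨e, he⟩)
  have h2 := LinearMap.finrank_le_finrank_of_injective hf
  rw [Module.finrank_pi_fintype] at h2
  rw [← Finset.sum_coe_sort]
  exact h2

omit [Finite K] in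
theorem card_four {D : Finset h.EB} (hD : ∑ e ∈ D, e = 1) {d : ℕ} (hd : 0 < d) (hV : finrank K V = 4 * d)
    (hM : Cl.Many (Cl.rk h) D d) : D.card = 4 := by
  refine hM.1.resolve_left fun h3 => ?_
  have h1 := finrank_le_sum h hD
  rw [Finset.sum_congr rfl hM.2, Finset.sum_const, h3, smul_eq_mul] at h1
  omega

/-- the unit of an isometric endomorphism -/
noncomputable def isoU (a : h.EB) (ha : ∀ x y, h.b (h.ap a x) (h.ap a y) = h.b x y) : h.EBˣ :=
  mkU a (mul_eq_one_comm.1 (h.ap_ext fun y => h.ext_right fun x => by rw [h.ap_mul, h.b_star, ha, h.ap_one]))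

theorem isoU_val (a : h.EB) (ha : ∀ x y, h.b (h.ap a x) (h.ap a y) = h.b x y) : (isoU h a ha : h.EB) = a := rfl

theorem isoU_ms (a : h.EB) (ha : ∀ x y, h.b (h.ap a x) (h.ap a y) = h.b x y) :
    (isoU h a ha : h.EB) * star (isoU h a ha : h.EB) = 1 := (h.unit_iff _).2 ha

omit [Finite K] [Finite V] in
theorem ap_inv_ap (u : h.EBˣ) (v : V) : h.ap (u⁻¹ : h.EBˣ) (h.ap u v) = v := by
  rw [← h.ap_mul, Units.inv_mul, h.ap_one]

omit [Finite K] [Finite V] in
theorem ap_ap_inv (u : h.EBˣ) (v : V) : h.ap u (h.ap (u⁻¹ : h.EBˣ) v) = v := by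
  rw [← h.ap_mul, Units.mul_inv, h.ap_one]

/-- quasi-reflections -/
def qr (κ : K) (v : V) : h.EB := 1 - h.eb (κ • h.ro v v)

omit [Finite K] [Finite V] in
theorem ap_qr (κ : K) (v x : V) : h.ap (qr h κ v) x = x - (κ * h.b x v) • v := by
  rw [qr, h.ap_sub, h.ap_one, h.ap_eb, LinearMap.smul_apply, h.ro_apply, smul_smul]

omit [Finite K] [Finite V] in
theorem qr_form (hε : h.ε = 1) {κ : K} {v : V} (hκ : κ + h.τ κ = κ * h.τ κ * h.b v v) (x y : V) :
    h.b (h.ap (qr h κ v) x) (h.ap (qr h κ v) y) = h.b x y := by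
  rw [ap_qr, ap_qr, h.sub_left, h.sub_right, h.sub_right, h.smul_left, h.smul_left, h.smul_right, h.smul_right,
    h.swap y v, hε, map_mul]
  linear_combination (-(h.b x v * h.τ (h.b y v))) * hκ

theorem qr_comm {D : Finset h.EB} (hD : Fr D) {e : h.EB} (he : e ∈ D) {w : V} (hw : h.ap e w = w) (κ : K) :
    ∀ e' ∈ D, qr h κ w * e' = e' * qr h κ w := by
  intro e' he'
  apply h.ap_ext
  intro x
  rw [h.ap_mul, h.ap_mul, ap_qr, ap_qr, map_sub, map_smul, ← h.b_star, hD.symm e' he']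
  by_cases hee : e' = e
  · rw [hee, hw]
  · rw [← hw, ← h.ap_mul, hD.orth e' he' e he hee, ap_zero, h.zero_right, mul_zero, zero_smul, smul_zero]

theorem qr_conj {u : h.EBˣ} (hu : (u : h.EB) * star (u : h.EB) = 1) (κ : K) (w : V) :
    (u : h.EB) * qr h κ w * (u⁻¹ : h.EBˣ) = qr h κ (h.ap u w) := by
  apply h.ap_ext
  intro x
  rw [h.ap_mul, h.ap_mul, ap_qr, ap_qr, map_sub, map_smul, ap_ap_inv, ← (h.unit_iff u).1 hu, ap_ap_inv]

theorem SL.map_qr {γ : RingAut h.EB} (L : SL h γ) (κ : K) (w : V) :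
    γ (qr h κ w) = qr h (L.σ κ / L.μ) (L.g w) := by
  apply h.ap_ext
  intro x
  obtain ⟨x, rfl⟩ := L.g.surjective x
  rw [L.conj, ap_qr, ap_qr, map_sub, L.smul, L.form, map_mul]
  congr 2
  have := L.μ_ne
  field_simp

theorem Fr.b_eq_zero {D : Finset h.EB} (hD : Fr D) {e e' : h.EB} (he : e ∈ D) (he' : e' ∈ D) (hee : e ≠ e') {v w : V}
    (hv : h.ap e v = v) (hw : h.ap e' w = w) : h.b v w = 0 := by
  rw [← hv, ← hw, ← h.b_star, hD.symm e he, ← h.ap_mul, hD.orth e he e' he' hee, ap_zero, h.zero_right]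

theorem Fr.ap_eq_zero {D : Finset h.EB} (hD : Fr D) {e e' : h.EB} (he : e ∈ D) (he' : e' ∈ D) (hee : e ≠ e') {w : V}
    (hw : h.ap e' w = w) : h.ap e w = 0 := by
  rw [← hw, ← h.ap_mul, hD.orth e he e' he' hee, ap_zero]

/-- the form is non-degenerate on a block -/
theorem Fr.exists_ne {D : Finset h.EB} (hD : Fr D) {e : h.EB} (he : e ∈ D) {v : V} (hv : h.ap e v = v) (h0 : v ≠ 0) :
    ∃ u, h.ap e u = u ∧ h.b u v ≠ 0 := by
  obtain ⟨u, hu⟩ := h.exists_ne h0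
  refine ⟨h.ap e u, by rw [← h.ap_mul, hD.idem e he], ?_⟩
  rwa [← h.b_star, hD.symm e he, hv]

end semi

end Cfsg.Agent.SB.Tor
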