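import Cfsg.Agent.SB.Tor.Ext
import Cfsg.Agent.SB.Fld.Rows
import Cfsg.Agent.SB.Cl.Basic

/-!
# S5765, the row `RowLExt` (helper90)

`phi` : the automorphisms of the ring of pairs commuting with `star` act on `End V` (the symmetric elements) as
automorphisms and anti-automorphisms.
-/

set_option autoImplicit false

namespace Cfsg.Agent.SB.Tor

open Module Cfsg Cfsg.Agent.DS.Cl Cfsg.Agent.DS.Cl.Fwd Cfsg.Agent.SB.Fld
open Cfsg.Agent.H198.FC (R RA IN)
open scoped Matrix commutatorElement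

variable {n : ℕ} {K : Type} [Field K]

/-- the symmetric element with given first component -/
noncomputable def sy (X : R K (Fin n → K)) : LR (Fin n) K :=
  LR.mk (Matrix.toLinAlgEquiv'.symm X) (Matrix.toLinAlgEquiv'.symm X)ᵀ

theorem pr_sy (X : R K (Fin n → K)) : prL n K (sy X) = X := Matrix.toLinAlgEquiv'.apply_symm_apply X

theorem star_sy (X : R K (Fin n → K)) : star (sy X) = sy X := rfl

theorem sy_pr {a : LR (Fin n) K} (ha : star a = a) : sy (prL n K a) = a := by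
  have h1 : a.1ᵀ = a.2 := congrArg Prod.snd ha
  rw [sy, prL_apply, AlgEquiv.symm_apply_apply, h1]
  rfl

theorem sy_add (X Y : R K (Fin n → K)) : sy (X + Y) = sy X + sy Y := by
  rw [sy, sy, sy, LR.mk_add, map_add, Matrix.transpose_add]

theorem sy_mul (X Y : R K (Fin n → K)) :
    sy (X * Y) = LR.mk 1 0 * (sy X * sy Y) + star (LR.mk 1 0) * (sy Y * sy X) := by
  rw [sy, sy, sy, LR.star_mk, LR.mk_mul, LR.mk_mul, LR.mk_mul, LR.mk_mul, LR.mk_add, map_mul, Matrix.transpose_mul]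
  simp

theorem eq_sy (a : LR (Fin n) K) :
    a = LR.mk 1 0 * sy (prL n K a) + star (LR.mk 1 0) * sy (prL n K (star a)) := by
  obtain ⟨a, b, rfl⟩ := LR.exists_mk a
  rw [sy, sy, prL_apply, prL_apply, AlgEquiv.symm_apply_apply, AlgEquiv.symm_apply_apply, LR.star_mk, LR.star_mk,
    LR.mk_mul, LR.mk_mul, LR.mk_add]
  simp [LR.mk]
  rfl

theorem pr_eps : prL n K (LR.mk 1 0) = 1 := map_one (Matrix.toLinAlgEquiv' (n := Fin n) (R := K))

theorem pr_eps' : prL n K (star (LR.mk 1 0)) = 0 := by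
  rw [LR.star_mk, Matrix.transpose_zero]
  exact map_zero (Matrix.toLinAlgEquiv' (n := Fin n) (R := K))

theorem eps_LR : Eps (LR.mk 1 0 : LR (Fin n) K) :=
  ⟨Subring.mem_center_iff.2 fun a => by
    obtain ⟨a, b, rfl⟩ := LR.exists_mk a
    rw [LR.mk_mul, LR.mk_mul, mul_one, one_mul, mul_zero, zero_mul], by rw [LR.mk_mul, mul_one, mul_zero], LR.half⟩

variable (n K) in
/-- the action on the symmetric elements -/
noncomputable def phi : SAut (LR (Fin n) K) →* Equiv.Perm (R K (Fin n → K)) :=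
  MonoidHom.toHomPerm
    { toFun := fun γ X => prL n K (γ.1 (sy X))
      map_one' := funext fun X => pr_sy X
      map_mul' := fun γ δ => funext fun X => by
        show prL n K (γ.1 (δ.1 (sy X))) = prL n K (γ.1 (sy (prL n K (δ.1 (sy X)))))
        rw [sy_pr (by rw [← δ.2, star_sy])] }

theorem phi_apply (γ : SAut (LR (Fin n) K)) (X : R K (Fin n → K)) : phi n K γ X = prL n K (γ.1 (sy X)) := rfl

theorem phi_mul_pos {γ : SAut (LR (Fin n) K)} (h : γ.1 (LR.mk 1 0) = LR.mk 1 0) (X Y : R K (Fin n → K)) :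
    phi n K γ (X * Y) = phi n K γ X * phi n K γ Y := by
  simp only [phi_apply, sy_mul, map_add, map_mul, γ.2 (LR.mk 1 0), h, pr_eps, pr_eps', one_mul, zero_mul, add_zero]

theorem phi_mul_neg {γ : SAut (LR (Fin n) K)} (h : γ.1 (LR.mk 1 0) = star (LR.mk 1 0)) (X Y : R K (Fin n → K)) :
    phi n K γ (X * Y) = phi n K γ Y * phi n K γ X := by
  simp only [phi_apply, sy_mul, map_add, map_mul, γ.2 (LR.mk 1 0), h, star_star, pr_eps, pr_eps', one_mul, zero_mul,
    zero_add]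

theorem phi_mem [Nonempty (Fin n)] (γ : SAut (LR (Fin n) K)) : phi n K γ ∈ RA K (Fin n → K) :=
  ⟨fun X Y => by simp only [phi_apply, sy_add, map_add],
    (LR.ss.map_eps eps_LR γ.2).imp (fun h => phi_mul_pos h) fun h => phi_mul_neg h⟩

theorem phi_injective (hn : 2 ≤ n) : Function.Injective (phi n K) := by
  have : Nontrivial (Fin n) := Fin.nontrivial_iff_two_le.2 hn
  rw [injective_iff_map_eq_one]
  intro γ hγ
  have h1 : ∀ X, γ.1 (sy X) = sy X := fun X => by
    have h2 : phi n K γ X = X := by rw [hγ]; rfl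
    rw [← sy_pr (a := γ.1 (sy X)) (by rw [← γ.2, star_sy]), ← phi_apply, h2]
  rcases LR.ss.map_eps eps_LR γ.2 with h | h
  · refine Subtype.ext (RingEquiv.ext fun a => ?_)
    show γ.1 a = a
    conv_lhs => rw [eq_sy a, map_add, map_mul, map_mul, γ.2, h, h1, h1, ← eq_sy a]
  · exfalso
    obtain ⟨i, j, hij⟩ := exists_pair_ne (Fin n)
    have h2 := phi_mul_neg h (Matrix.toLinAlgEquiv' (Matrix.single i j (1 : K)))
      (Matrix.toLinAlgEquiv' (Matrix.single j j (1 : K)))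
    rw [hγ, Equiv.Perm.one_apply, Equiv.Perm.one_apply, Equiv.Perm.one_apply, ← map_mul, ← map_mul,
      Matrix.single_mul_single_same, Matrix.single_mul_single_of_ne _ _ _ _ hij.symm] at h2
    have h3 := congrFun (congrFun (Matrix.toLinAlgEquiv'.injective h2) i) j
    simp at h3

/-- the first component of a unit -/
noncomputable def pu (u : (LR (Fin n) K)ˣ) : (R K (Fin n → K))ˣ := Units.map (prL n K).toMonoidHom u

theorem pu_val (u : (LR (Fin n) K)ˣ) : (pu u : R K (Fin n → K)) = prL n K u := rfl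

theorem phi_cj {u : (LR (Fin n) K)ˣ} (h : cj _ u ∈ SAut (LR (Fin n) K)) :
    phi n K ⟨cj _ u, h⟩ = H198.FC.cj K _ (pu u) := by
  refine Equiv.ext fun X => ?_
  rw [phi_apply, H198.FC.cj_apply, cj_apply, map_mul, map_mul, pr_sy]
  rfl

theorem mem_comm_iff [Finite K] (hn : 3 ≤ n) (F : FR (LR (Fin n) K)) (u : (LR (Fin n) K)ˣ) :
    u ∈ (⁅F.Iso, F.Iso⁆ : Subgroup _) ↔ u ∈ F.Iso ∧ LinearMap.det (prL n K u) = 1 := by
  have _ := Fintype.ofFinite K
  have hr : (LR.gl (ι := Fin n) (F := K)).range = F.Iso := by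
    ext u
    rw [LR.mem_gl]
    exact ⟨fun hu => mem_Iso_max (F.L_eq eps_LR.cen eps_LR.add) hu, fun hu => hu.1⟩
  have hd : ∀ A : GL (Fin n) K, LinearMap.det (prL n K (LR.gl A)) = Matrix.det (A : Matrix (Fin n) (Fin n) K) :=
    fun A => LinearMap.det_toLin' _
  rw [← hr, comm_range, Cfsg.Agent.S0264.result n (by omega)]
  constructor
  · rintro ⟨A, hA, rfl⟩
    exact ⟨⟨A, rfl⟩, (hd A).trans (congrArg Units.val (MonoidHom.mem_ker.1 hA))⟩
  · rintro ⟨⟨A, rfl⟩, hA⟩
    exact ⟨A, MonoidHom.mem_ker.2 (Units.ext ((hd A).symm.trans hA)), rfl⟩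

/-- the image of a subgroup -/
noncomputable def im (S : Subgroup (RingAut (LR (Fin n) K))) : Subgroup (Equiv.Perm (R K (Fin n → K))) :=
  (S.subgroupOf (SAut _)).map (phi n K)

theorem im_S [Finite K] (hn : 3 ≤ n) (F : FR (LR (Fin n) K)) : im F.S = SLc K (Fin n → K) := by
  ext f
  constructor
  · rintro ⟨⟨_, hγ⟩, ⟨u, hu, rfl⟩, rfl⟩
    rw [phi_cj]
    exact cj_mem_SLc ((mem_comm_iff hn F u).1 hu).2
  · rintro ⟨x, hx, rfl⟩
    let u : (LR (Fin n) K)ˣ := LR.gl (Units.map (Matrix.toLinAlgEquiv' (n := Fin n) (R := K)).symm.toMonoidHom x)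
    have h1 : pu u = x := Units.ext (Matrix.toLinAlgEquiv'.apply_symm_apply (x : R K (Fin n → K)))
    have h2 : (u : LR (Fin n) K) * star (u : LR (Fin n) K) = 1 := (LR.mem_gl u).1 ⟨_, rfl⟩
    refine ⟨⟨cj _ u, cj_mem_SAut h2⟩, ⟨u, (mem_comm_iff hn F u).2
      ⟨mem_Iso_max (F.L_eq eps_LR.cen eps_LR.add) h2, ?_⟩, rfl⟩, by rw [phi_cj, h1]⟩
    rw [← pu_val, h1]
    exact congrArg Units.val (MonoidHom.mem_ker.1 hx)

theorem dat_im [Finite K] (hn : 3 ≤ n) {F : FR (LR (Fin n) K)} {S Y : Subgroup (RingAut (LR (Fin n) K))} {r a : ℕ}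
    (hr : r.Prime) (ha : 1 ≤ a) (hna : n = r ^ a) (h : Cl.ExtD F S Y r) (hc : Nat.card Y = r ^ (2 * a)) :
    H716.FC.Dat (im Y) r a := by
  obtain ⟨h1, h2, h3, -, h5⟩ := h
  have hY : Y ≤ SAut _ := (h1.trans inf_le_right).trans (F.S_le_Aut.trans F.Aut_le_SAut)
  refine ⟨hr, ha, by rw [← hna]; simp, ?_, ?_, ?_, ?_, ?_⟩
  · rintro _ ⟨⟨γ, hγ⟩, hγY, rfl⟩
    obtain ⟨u, -, rfl⟩ := (h1 hγY).2
    exact ⟨pu u, (phi_cj hγ).symm⟩
  · rw [im, Subgroup.card_map_of_injective (phi_injective (by omega)), ← hc]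
    exact Nat.card_congr (Subgroup.subgroupOfEquivOfLe hY).toEquiv
  · rintro _ ⟨γ, hγ, rfl⟩
    rw [← map_pow, show γ ^ r = 1 from Subtype.ext (h3 _ hγ), map_one]
  · rintro _ ⟨γ, hγ, rfl⟩ _ ⟨δ, hδ, rfl⟩
    rw [← map_mul, ← map_mul, show γ * δ = δ * γ from Subtype.ext (h2 _ hγ _ hδ)]
  · set W := Submodule.span K {X : R K (Fin n → K) | ∃ x : (R K (Fin n → K))ˣ, (x : R K (Fin n → K)) = X ∧
      H198.FC.cj K _ x ∈ im Y} with hW
    have w1 : (1 : R K (Fin n → K)) ∈ W := Submodule.subset_span ⟨1, rfl, by rw [map_one]; exact one_mem _⟩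
    have wm : ∀ X ∈ W, ∀ X' ∈ W, X * X' ∈ W := by
      intro X hX X' hX'
      have h6 := Submodule.mul_mem_mul hX hX'
      rw [hW, Submodule.span_mul_span] at h6
      refine Submodule.span_mono ?_ h6
      rintro _ ⟨_, ⟨x, rfl, hx⟩, _, ⟨y, rfl, hy⟩, rfl⟩
      exact ⟨x * y, rfl, by rw [map_mul]; exact mul_mem hx hy⟩
    let B : Subring (LR (Fin n) K) :=
      { carrier := {a | prL n K a ∈ W}
        mul_mem' := fun {a b} ha hb => by
          show prL n K (a * b) ∈ W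
          rw [map_mul]; exact wm _ ha _ hb
        one_mem' := by
          show prL n K 1 ∈ W
          rw [map_one]; exact w1
        add_mem' := fun {a b} ha hb => by
          show prL n K (a + b) ∈ W
          rw [map_add]; exact W.add_mem ha hb
        zero_mem' := by
          show prL n K 0 ∈ W
          rw [map_zero]; exact W.zero_mem
        neg_mem' := fun {a} ha => by
          show prL n K (-a) ∈ W
          rw [map_neg]; exact W.neg_mem ha }
    have hB : ⊤ ≤ B := by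
      rw [← h5, Subring.closure_le]
      rintro a (ha | ⟨u, hu, huY, rfl⟩)
      · obtain ⟨k, hk⟩ := luL.scal_of ha
        show prL n K a ∈ W
        rw [hk]
        exact W.smul_mem k w1
      · exact Submodule.subset_span ⟨pu u, rfl, ⟨cj _ u, hY huY⟩, huY, phi_cj _⟩
    rw [eq_top_iff]
    intro X _
    rw [← pr_sy X]
    exact hB (Subring.mem_top _)

theorem rowLExt : Cl.RowLExt := by
  intro K _ _ n F S Y H hc
  have hn : 3 ≤ n := by rcases hc with h | h <;> omega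
  have : Nonempty (Fin n) := ⟨⟨0, by omega⟩⟩
  obtain ⟨r, hE⟩ : ∃ r, Cl.ExtD F S Y r := hc.elim (fun h => ⟨_, h.2.2.1⟩) fun h => ⟨_, h.2.2.1⟩
  have hS : im S ≤ RA K (Fin n → K) := by
    rintro _ ⟨γ, -, rfl⟩
    exact phi_mem γ
  have hYS : im Y ≤ im S := Subgroup.map_mono (Subgroup.comap_mono (hE.1.trans inf_le_left))
  have hYT : im Y ≤ SLc K (Fin n → K) := by
    rw [← im_S hn F]
    exact Subgroup.map_mono (Subgroup.comap_mono (hE.1.trans inf_le_right))
  have hnorm : ∀ g ∈ im S, ∀ f ∈ im Y, g * f * g⁻¹ ∈ im Y := by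
    rintro _ ⟨γ, hγ, rfl⟩ _ ⟨δ, hδ, rfl⟩
    exact ⟨γ * δ * γ⁻¹, hE.2.2.2.1 _ hγ _ hδ, by rw [map_mul, map_mul, map_inv]⟩
  have hinj := phi_injective (K := K) (n := n) (by omega)
  have e1 := Subgroup.map_subgroupOf_eq_of_le (F.S_le_Aut.trans F.Aut_le_SAut)
  have e2 := Subgroup.map_subgroupOf_eq_of_le H.le_SAut
  rcases hc with ⟨h1, -, h3, h4⟩ | ⟨h1, h2, h3, h4⟩
  · have h5 := four_three hS hYS (dat_im hn Nat.prime_three le_rfl h1 h3 h4) hnorm hYT
    rw [← im_S hn F] at h5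
    obtain ⟨x, hx, y, hy, z, hz, h6⟩ := Four.of_map _ hinj h5
    exact H.good_of_four ⟨x, hx, y, hy, z, hz, fun s hs a b c =>
      congrArg Subtype.val (h6 ⟨s, H.le_SAut hs⟩ hs a b c)⟩
  · have hK : ∀ s : K, s ≠ 0 → s * s = 1 := fun s hs => by
      have _ := Fintype.ofFinite K
      have h5 := FiniteField.pow_card_sub_one_eq_one s hs
      rwa [← Nat.card_eq_fintype_card, h2, pow_two] at h5
    have h5 := seven_four hK hS hYS (dat_im hn Nat.prime_two one_le_two h1 h3 h4) hnorm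
    rw [← im_S hn F] at h5
    have h6 := (Seven.of_map _ hinj h5).map _ (SAut (LR (Fin n) K)).subtype_injective
    rw [e1, e2] at h6
    exact Or.inr h6

end Cfsg.Agent.SB.Tor
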