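import Cfsg.Agent.SB.Tor.Two
import Cfsg.Agent.H710.FC.COdd
import Cfsg.Agent.SB.Basic

/-!
# S5765, normalisers of `3^{1+2}` and `2^{1+4}` in the linear groups (helper90)

`four_three`, `seven_four` in the language of `H198.FC` (`RA K V` = automorphisms and anti-automorphisms of `End V`).
-/

set_option autoImplicit false

namespace Cfsg.Agent.SB.Tor

open Module Cfsg.Agent.H198.FC
open Cfsg.Agent.H886.FC (fU fU_val ra_pow ra_zero ra_add ra_neg ra_one conj_cj_rp conj_cj_anti)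
open Cfsg.Agent.H716.FC (Dat Lf Cm An mem_Lf cj_eq_of cj_eq_of' smul_inj_unit)

universe u v

/-- the trick with seven triples, normality of `T` replaced by what is used -/
theorem seven_of_trick' {G : Type*} [Group G] {T S N : Subgroup G} (hNS : N ≤ S)
    (hNn : ∀ s ∈ S, ∀ v ∈ N, s * v * s⁻¹ ∈ N) {x : G} (hx : x ∈ T) (hxN : ∀ v ∈ N, x⁻¹ * v * x ∈ S → v = 1)
    (v : Fin 7 → Fin 3 → G) (hv : ∀ c i, v c i ∈ N) (hT : ∀ c i, v c i * x * (v c i)⁻¹ ∈ T)
    (hD : ∀ k ∈ S, ∀ c c', (∀ i, k * v c' i * k⁻¹ = v c i) → c = c' ∧ k ∈ N) : Seven T S := by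
  refine ⟨fun c => ![x, v c 0 * x * (v c 0)⁻¹, v c 1 * x * (v c 1)⁻¹, v c 2 * x * (v c 2)⁻¹], fun c i => ?_,
    fun s hs c c' hi => ?_⟩
  · fin_cases i
    exacts [hx, hT c 0, hT c 1, hT c 2]
  · have h1 := hD s hs c c' fun i => by
      fin_cases i
      · exact trick_key hNS hNn hxN (hv c 0) (hv c' 0) hs (hi 0) (hi 1)
      · exact trick_key hNS hNn hxN (hv c 1) (hv c' 1) hs (hi 0) (hi 2)
      · exact trick_key hNS hNn hxN (hv c 2) (hv c' 2) hs (hi 0) (hi 3)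
    exact ⟨h1.1, hxN s h1.2 (hi 0)⟩

variable {K : Type u} [Field K] {V : Type v} [AddCommGroup V] [Module K V]

variable (K V) in
/-- the image of `SL(V)` -/
noncomputable def SLc : Subgroup (Equiv.Perm (R K V)) :=
  (Units.map (LinearMap.det : R K V →* K)).ker.map (cj K V)

theorem cj_mem_SLc {x : (R K V)ˣ} (h : LinearMap.det (x : R K V) = 1) : cj K V x ∈ SLc K V :=
  ⟨x, Units.ext h, rfl⟩

theorem SLc_conj {g f : Equiv.Perm (R K V)} (hg : g ∈ IN K V) (hf : f ∈ SLc K V) : g * f * g⁻¹ ∈ SLc K V := by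
  obtain ⟨y, rfl⟩ := hg
  obtain ⟨x, hx, rfl⟩ := hf
  exact ⟨y * x * y⁻¹, (MonoidHom.normal_ker _).conj_mem x hx y, by rw [map_mul, map_mul, map_inv]⟩

/-- the centraliser of `A` in `S` -/
theorem cent_conj {G : Type*} [Group G] {S A : Subgroup G} (hnorm : ∀ g ∈ S, ∀ f ∈ A, g * f * g⁻¹ ∈ A) :
    ∀ s ∈ S, ∀ v ∈ S ⊓ Subgroup.centralizer (A : Set G), s * v * s⁻¹ ∈ S ⊓ Subgroup.centralizer (A : Set G) := by
  intro s hs v hv
  refine ⟨S.mul_mem (S.mul_mem hs hv.1) (S.inv_mem hs), Subgroup.mem_centralizer_iff.2 fun g hg => ?_⟩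
  have h1 := Subgroup.mem_centralizer_iff.1 hv.2 _ (hnorm s⁻¹ (inv_mem hs) g hg)
  calc g * (s * v * s⁻¹) = s * (s⁻¹ * g * s⁻¹⁻¹ * v) * s⁻¹ := by group
    _ = s * v * s⁻¹ * g := by rw [h1]; group

/-! ### dimension three -/

theorem trace_cube [Module.Finite K V] (h3 : finrank K V = 3) {X : R K V} (hX : LinearMap.trace K V X = 0) :
    LinearMap.trace K V (X ^ 3) = 3 * LinearMap.det X := by
  let b := Module.finBasisOfFinrankEq K V h3
  rw [LinearMap.trace_eq_matrix_trace K b] at hX ⊢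
  rw [← LinearMap.det_toMatrix b, pow_succ, pow_two, LinearMap.toMatrix_mul, LinearMap.toMatrix_mul]
  generalize LinearMap.toMatrix b b X = M at hX ⊢
  rw [Matrix.trace_fin_three] at hX ⊢
  rw [Matrix.det_fin_three]
  simp only [Matrix.mul_apply, Fin.sum_univ_three]
  linear_combination ((M 0 0 + M 1 1 + M 2 2) ^ 2 - 3 * (M 0 0 * M 1 1 + M 0 0 * M 2 2 + M 1 1 * M 2 2 -
    M 0 1 * M 1 0 - M 0 2 * M 2 0 - M 1 2 * M 2 1)) * hX

theorem cube_eq_one [Module.Finite K V] {A : Subgroup (Equiv.Perm (R K V))} (h : Dat A 3 1) {x : (R K V)ˣ}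
    (hx : x ∈ Lf A) (hns : ¬ ∃ s : K, (x : R K V) = s • (1 : R K V)) (hd : LinearMap.det (x : R K V) = 1) :
    x ^ 3 = 1 := by
  obtain ⟨s, hs⟩ := h.pow_sc hx
  have h3 : finrank K V = 3 := h.hn
  have h1 := trace_cube h3 (h.trace_zero hx hns)
  have h2 : (3 : K) ≠ 0 := by exact_mod_cast h.r_ne_zero
  rw [hs, map_smul, LinearMap.trace_one, h3, hd, smul_eq_mul, mul_comm] at h1
  have h4 : s = 1 := mul_left_cancel₀ h2 (by exact_mod_cast h1)
  apply Units.ext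
  rw [Units.val_pow_eq_pow_val, hs, h4, one_smul, Units.val_one]

theorem four_three [Finite K] [Module.Finite K V] {S A : Subgroup (Equiv.Perm (R K V))} (hS : S ≤ RA K V)
    (hAS : A ≤ S) (hD : Dat A 3 1) (hnorm : ∀ g ∈ S, ∀ f ∈ A, g * f * g⁻¹ ∈ A) (hA : A ≤ SLc K V) :
    Four (SLc K V) S := by
  have hnt := hD.nontriv
  obtain ⟨ω, P, Z, hPA, hZA, h⟩ : ∃ (ω : K) (P Z : (R K V)ˣ), cj K V P ∈ A ∧ cj K V Z ∈ A ∧ H710.FC.Heis 3 ω P Z := by
    obtain ⟨u, hu, hns⟩ := hD.exists_nonsc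
    obtain ⟨v, hv, ε, hε, hε1⟩ := hD.exists_eps hns fun v hv => hD.comm hv hu
    obtain ⟨P, hP, hPu⟩ := hA hu
    obtain ⟨Z, hZ, hZv⟩ := hA hv
    have hP' : P ∈ Lf A := by rw [mem_Lf, hPu]; exact hu
    have hZ' : Z ∈ Lf A := by rw [mem_Lf, hZv]; exact hv
    obtain ⟨c, hc⟩ := cj_eq_of hPu
    obtain ⟨d, hd⟩ := cj_eq_of hZv
    have h1 : (Z : R K V) * P = ε • ((P : R K V) * Z) := by
      rw [hc, hd, smul_mul_smul_comm, smul_mul_smul_comm, hε, smul_comm, mul_comm d c]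
    have h2 : ∀ x y : (R K V)ˣ, (∃ s : K, (x : R K V) = s • (1 : R K V)) → (x : R K V) * y = y * x := by
      rintro x y ⟨s, hs⟩
      rw [hs, smul_mul_assoc, mul_smul_comm, one_mul, mul_one]
    have h3 : (Z : R K V) * P ≠ P * Z := fun h0 => hε1 (smul_inj_unit (x := P * Z) (by
      rw [Units.val_mul, ← h1, h0, one_smul]))
    refine ⟨ε, P, Z, hP', hZ', Nat.prime_three, by norm_num, ?_, hD.hn,
      cube_eq_one hD hP' (fun h0 => h3 (h2 P Z h0).symm) (congrArg Units.val hP),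
      cube_eq_one hD hZ' (fun h0 => h3 (h2 Z P h0)) (congrArg Units.val hZ), h1⟩
    have : Fact (Nat.Prime 3) := ⟨Nat.prime_three⟩
    rw [← orderOf_eq_prime (hD.eps_pow hv hε) hε1]
    exact IsPrimitiveRoot.orderOf ε
  obtain ⟨b, hbZ, hbP⟩ := h.exists_basis
  obtain ⟨δ, hδ⟩ := H710.FC.exists_gen K h.hr h.prim
  set x : (R K V)ˣ := H710.FC.uN _ (h.EE (b := b) δ) with hx
  have hlift : ∀ f ∈ A, ∃ i j : ℕ, f = cj K V (P ^ i * Z ^ j) := by
    intro f hf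
    obtain ⟨Y, rfl⟩ := hD.hIN hf
    obtain ⟨c₁, h1⟩ := H710.FC.exists_comm (hD.hcomm _ hf _ hZA)
    obtain ⟨c₂, h2⟩ := H710.FC.exists_comm (hD.hcomm _ hf _ hPA)
    exact h.lift h1 h2
  have one : ∀ f ∈ S, f * cj K V P * f⁻¹ = cj K V P → f * cj K V Z * f⁻¹ = cj K V Z →
      cj K V x * f * (cj K V x)⁻¹ ∈ S → f = 1 := by
    intro f hf fP fZ hxf
    have hg : cj K V x * f * (cj K V x)⁻¹ * f⁻¹ ∈ S := S.mul_mem hxf (S.inv_mem hf)
    obtain ⟨i, j, hij⟩ := hlift _ (hnorm _ hg _ hZA)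
    obtain ⟨gP, gZ, glin, gm⟩ := h.star hbZ hbP hδ (hS hf) fP fZ rfl hij
    apply Equiv.ext
    intro X
    rw [Equiv.Perm.one_apply]
    have hX : X ∈ Submodule.span K {X : R K V | ∃ x : (R K V)ˣ, (x : R K V) = X ∧ cj K V x ∈ A} := by
      rw [hD.hspan]; exact Submodule.mem_top
    induction hX using Submodule.span_induction with
    | mem X hX =>
      obtain ⟨y, rfl, hy⟩ := hX
      obtain ⟨i', j', h1⟩ := hlift _ hy
      obtain ⟨c, hc⟩ := cj_eq_of h1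
      rw [hc, glin, Units.val_mul, Units.val_pow_eq_pow_val, Units.val_pow_eq_pow_val, gm, ra_pow (hS hf),
        ra_pow (hS hf), gP, gZ]
    | zero => exact ra_zero (hS hf)
    | add X Y _ _ hX hY => rw [ra_add (hS hf), hX, hY]
    | smul c X _ hX => rw [glin, hX]
  have hxT : (cj K V x)⁻¹ ∈ SLc K V := inv_mem (cj_mem_SLc (H710.FC.det_uN _ _))
  have hxA : ∀ f ∈ A, (cj K V x)⁻¹⁻¹ * f * (cj K V x)⁻¹ ∈ S → f = 1 := fun f hf h1 =>
    one f (hAS hf) (by rw [hD.hcomm _ hf _ hPA, mul_inv_cancel_right])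
      (by rw [hD.hcomm _ hf _ hZA, mul_inv_cancel_right]) (by rwa [inv_inv] at h1)
  exact ⟨_, hxT, _, SLc_conj (hD.hIN hPA) hxT, _, SLc_conj (hD.hIN hZA) hxT, fun s hs a0 a1 a2 =>
    one s hs (trick_key hAS hnorm hxA hPA hPA hs a0 a1) (trick_key hAS hnorm hxA hZA hZA hs a0 a2)
      (by rwa [inv_inv] at a0)⟩

/-! ### dimension four -/

/-- `x u = (-1)^n u x` -/
def Sg (x u : (R K V)ˣ) (n : ℕ) : Prop := (x : R K V) * u = (-1 : K) ^ n • ((u : R K V) * x)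

namespace Sg

variable {x u v : (R K V)ˣ} {m n : ℕ}

theorem symm (h : Sg x u n) : Sg u x n := by
  unfold Sg at *
  rw [h, smul_smul, ← mul_pow]
  simp

theorem mul (h : Sg x u m) (h' : Sg x v n) : Sg x (u * v) (m + n) := by
  unfold Sg at *
  rw [Units.val_mul, ← mul_assoc, h, smul_mul_assoc, mul_assoc, h', mul_smul_comm, smul_smul, pow_add, mul_assoc]

theorem pow (h : Sg x u m) (k : ℕ) : Sg x (u ^ k) (m * k) := by
  induction k with
  | zero => simp [Sg]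
  | succ k ih => rw [pow_succ]; exact ih.mul h

theorem of_cm (h : Cm (x : R K V) u) : Sg x u 0 := by
  unfold Sg
  rw [pow_zero, one_smul]
  exact h

theorem of_an (h : An (x : R K V) u) : Sg x u 1 := by
  unfold Sg
  rw [pow_one, neg_smul, one_smul]
  exact h

theorem unique [Nontrivial V] (h2 : (2 : K) ≠ 0) (h : Sg x u m) (h' : Sg x u n) : m % 2 = n % 2 := by
  have h1 : (-1 : K) ^ m = (-1) ^ n := smul_inj_unit (x := u * x) (Eq.trans (Eq.symm h) h')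
  rw [neg_one_pow_eq_pow_mod_two, neg_one_pow_eq_pow_mod_two (n := n)] at h1
  rcases Nat.mod_two_eq_zero_or_one m with a | a <;> rcases Nat.mod_two_eq_zero_or_one n with b | b <;>
    rw [a, b] at h1 ⊢
  · exact absurd (by linear_combination h1) h2
  · exact absurd (by linear_combination -h1) h2

theorem of_cj (h : Sg x u n) (e : cj K V v = cj K V u) : Sg x v n := by
  obtain ⟨s, hs⟩ := cj_eq_of e
  unfold Sg at *
  rw [hs, mul_smul_comm, h, smul_mul_assoc, smul_comm]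

theorem map (h : Sg x u n) {k : Equiv.Perm (R K V)} (hk : k ∈ RA K V) : Sg (fU k hk x) (fU k hk u) n := by
  have h1 : ∀ X, k ((-1 : K) ^ n • X) = (-1 : K) ^ n • k X := fun X => by
    rcases neg_one_pow_eq_or K n with a | a <;> rw [a]
    · rw [one_smul, one_smul]
    · rw [neg_smul, neg_smul, one_smul, one_smul, ra_neg hk]
  rcases hk.2 with hm | hm
  · unfold Sg at *
    rw [fU_val, fU_val, ← hm, ← hm, h, h1]
  · apply Sg.symm
    unfold Sg at *
    rw [fU_val, fU_val, ← hm, ← hm, h, h1]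

end Sg

/-- the monomials -/
def mon (a b η ζ : (R K V)ˣ) (t : Fin 4 → ℕ) : (R K V)ˣ := a ^ t 0 * b ^ t 1 * η ^ t 2 * ζ ^ t 3

/-- the commutator form -/
def Bf (s t : Fin 4 → ℕ) : ℕ := t 1 * s 0 + t 0 * s 1 + t 3 * s 2 + t 2 * s 3

theorem sg_mon {a b η ζ : (R K V)ˣ} (ab : Sg a b 1) (aη : Sg a η 0) (aζ : Sg a ζ 0) (bη : Sg b η 0) (bζ : Sg b ζ 0)
    (ηζ : Sg η ζ 1) (s t : Fin 4 → ℕ) : Sg (mon a b η ζ s) (mon a b η ζ t) (Bf s t) := by
  have s0 : ∀ x : (R K V)ˣ, Sg x x 0 := fun x => Sg.of_cm Cm.self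
  have h1 : Sg a (mon a b η ζ t) (t 1) := by
    simpa [mon] using ((((s0 a).pow (t 0)).mul (ab.pow (t 1))).mul (aη.pow (t 2))).mul (aζ.pow (t 3))
  have h2 : Sg b (mon a b η ζ t) (t 0) := by
    simpa [mon] using (((ab.symm.pow (t 0)).mul ((s0 b).pow (t 1))).mul (bη.pow (t 2))).mul (bζ.pow (t 3))
  have h3 : Sg η (mon a b η ζ t) (t 3) := by
    simpa [mon] using (((aη.symm.pow (t 0)).mul (bη.symm.pow (t 1))).mul ((s0 η).pow (t 2))).mul (ηζ.pow (t 3))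
  have h4 : Sg ζ (mon a b η ζ t) (t 2) := by
    simpa [mon] using (((aζ.symm.pow (t 0)).mul (bζ.symm.pow (t 1))).mul (ηζ.symm.pow (t 2))).mul ((s0 ζ).pow (t 3))
  exact ((((h1.symm.pow (s 0)).mul (h2.symm.pow (s 1))).mul (h3.symm.pow (s 2))).mul (h4.symm.pow (s 3))).symm

/-- seven bases of `a^⊥` -/
def wv : Fin 7 → Fin 3 → Fin 4 → ℕ :=
  ![![![0, 0, 1, 0], ![0, 0, 0, 1], ![1, 0, 0, 0]], ![![0, 0, 1, 0], ![1, 0, 0, 0], ![0, 0, 0, 1]],
    ![![1, 0, 0, 0], ![0, 0, 1, 0], ![0, 0, 0, 1]], ![![0, 0, 1, 0], ![0, 0, 0, 1], ![1, 0, 0, 1]],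
    ![![0, 0, 0, 1], ![0, 0, 1, 0], ![1, 0, 0, 1]], ![![0, 0, 0, 1], ![1, 0, 0, 1], ![0, 0, 1, 0]],
    ![![0, 0, 1, 0], ![0, 0, 0, 1], ![1, 0, 1, 1]]]

theorem wv_sep : ∀ c c' : Fin 7, (∀ i j, Bf (wv c i) (wv c j) % 2 = Bf (wv c' i) (wv c' j) % 2) → c = c' := by
  decide

theorem wv_gen : ∀ c : Fin 7, ∃ i j l, wv c i = ![0, 0, 1, 0] ∧ wv c j = ![0, 0, 0, 1] ∧ wv c l 0 = 1 ∧ wv c l 1 = 0 := by
  decide

theorem seven_four [Finite K] [Module.Finite K V] (hK : ∀ s : K, s ≠ 0 → s * s = 1)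
    {S A : Subgroup (Equiv.Perm (R K V))} (hS : S ≤ RA K V) (hAS : A ≤ S) (h : Dat A 2 2)
    (hnorm : ∀ g ∈ S, ∀ f ∈ A, g * f * g⁻¹ ∈ A) : Seven (SLc K V) S := by
  have hnt := h.nontriv
  have h2 := h.two_ne
  have : Finite (R K V) := H716.FC.finite_R
  obtain ⟨x, hx, hxN⟩ := c6two' hS h hnorm le_rfl
  obtain ⟨a, b, -, hN, -, -, -, -, ⟨D, hD, -⟩, -, η, hη, ζ, hζ, haη, hbη, haζ, hbζ, hηζ⟩ := h.exists_abc le_rfl
  have sg := sg_mon (Sg.of_an hN.hab) (Sg.of_cm haη) (Sg.of_cm haζ) (Sg.of_cm hbη) (Sg.of_cm hbζ) (Sg.of_an hηζ)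
  have hm : ∀ t, mon a b η ζ t ∈ Lf A := fun t =>
    mul_mem (mul_mem (mul_mem (pow_mem hN.ha _) (pow_mem hN.hb _)) (pow_mem hη _)) (pow_mem hζ _)
  -- every element of `A` is a monomial
  have hsurj : ∀ f ∈ A, ∃ t : Fin 4 → Fin 2, cj K V (mon a b η ζ fun i => t i) = f := by
    let g : (Fin 4 → Fin 2) → A := fun t => ⟨cj K V (mon a b η ζ fun i => t i), hm _⟩
    have hg : Function.Injective g := by
      intro t t' e
      have h1 : ∀ s, Bf s (fun i => t i) % 2 = Bf s (fun i => t' i) % 2 := fun s =>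
        (sg s _).unique h2 ((sg s _).of_cj (congrArg Subtype.val e))
      have a0 := h1 ![0, 1, 0, 0]
      have a1 := h1 ![1, 0, 0, 0]
      have a2 := h1 ![0, 0, 0, 1]
      have a3 := h1 ![0, 0, 1, 0]
      simp only [Bf, Matrix.cons_val, mul_zero, mul_one, add_zero, zero_add] at a0 a1 a2 a3
      funext i
      fin_cases i
      · exact Fin.ext (by have := (t 0).2; have := (t' 0).2; show (t 0 : ℕ) = t' 0; omega)
      · exact Fin.ext (by have := (t 1).2; have := (t' 1).2; show (t 1 : ℕ) = t' 1; omega)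
      · exact Fin.ext (by have := (t 2).2; have := (t' 2).2; show (t 2 : ℕ) = t' 2; omega)
      · exact Fin.ext (by have := (t 3).2; have := (t' 3).2; show (t 3 : ℕ) = t' 3; omega)
    have hb := hg.bijective_of_nat_card_le (by rw [h.hcard]; simp)
    intro f hf
    obtain ⟨t, ht⟩ := hb.2 ⟨f, hf⟩
    exact ⟨t, congrArg Subtype.val ht⟩
  have hcj : ∀ k (hk : k ∈ RA K V), ∀ u ∈ Lf A, k ∈ S → k * cj K V u * k⁻¹ = cj K V (fU k hk u) := by
    intro k hk u hu hkS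
    rcases hk.2 with e | e
    · exact conj_cj_rp hk e u
    · have h1 := h.hpow _ (hnorm k hkS _ hu)
      rw [conj_cj_anti hk e] at h1 ⊢
      rw [inv_pow, inv_eq_one, pow_two] at h1
      exact inv_eq_of_mul_eq_one_right h1
  have hsg : ∀ k ∈ S, ∀ s t s' t', k * cj K V (mon a b η ζ s) * k⁻¹ = cj K V (mon a b η ζ s') →
      k * cj K V (mon a b η ζ t) * k⁻¹ = cj K V (mon a b η ζ t') → Bf s' t' % 2 = Bf s t % 2 := by
    intro k hk s t s' t' e e'
    rw [hcj k (hS hk) _ (hm s) hk] at e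
    rw [hcj k (hS hk) _ (hm t) hk] at e'
    exact (sg s' t').unique h2 ((((sg s t).map (hS hk)).of_cj e'.symm).symm.of_cj e.symm).symm
  refine seven_of_trick' (N := S ⊓ Subgroup.centralizer (A : Set (Equiv.Perm (R K V)))) inf_le_left (cent_conj hnorm)
    (inv_mem (cj_mem_SLc hx)) (fun f hf h1 => hxN f hf.1 (fun g hg => (Subgroup.mem_centralizer_iff.1 hf.2 g hg).symm)
      (by rwa [inv_inv] at h1)) (fun c i => cj K V (mon a b η ζ (wv c i)))
    (fun c i => ⟨hAS (hm _), Subgroup.mem_centralizer_iff.2 fun g hg => h.hcomm _ hg _ (hm _)⟩)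
    (fun c i => SLc_conj ⟨_, rfl⟩ (inv_mem (cj_mem_SLc hx))) fun k hk c c' hi => ?_
  obtain rfl : c = c' := wv_sep c c' fun i j => hsg k hk _ _ _ _ (hi i) (hi j)
  refine ⟨rfl, hk, Subgroup.mem_centralizer_iff.2 fun g hg => ?_⟩
  let C : Subgroup (R K V)ˣ := (Subgroup.centralizer {k}).comap (cj K V)
  have hC : ∀ u, u ∈ C ↔ k * cj K V u * k⁻¹ = cj K V u := fun u => by
    rw [mul_inv_eq_iff_eq_mul]
    exact Subgroup.mem_centralizer_singleton_iff.trans eq_comm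
  obtain ⟨i, j, l, e1, e2, e3, e4⟩ := wv_gen c
  have mη : mon a b η ζ ![0, 0, 1, 0] = η := by simp [mon]
  have mζ : mon a b η ζ ![0, 0, 0, 1] = ζ := by simp [mon]
  have ma : mon a b η ζ ![1, 0, 0, 0] = a := by simp [mon]
  have mb : mon a b η ζ ![0, 1, 0, 0] = b := by simp [mon]
  have cη : η ∈ C := by rw [hC, ← mη, ← e1]; exact hi i
  have cζ : ζ ∈ C := by rw [hC, ← mζ, ← e2]; exact hi j
  have ca : a ∈ C := by
    have h1 := (hC _).2 (hi l)
    rwa [mon, e3, e4, pow_one, pow_zero, mul_one, C.mul_mem_cancel_right (pow_mem cζ _),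
      C.mul_mem_cancel_right (pow_mem cη _)] at h1
  have cb : b ∈ C := by
    obtain ⟨t, ht⟩ := hsurj _ (hnorm k hk _ hN.hb)
    have a1 := hsg k hk ![1, 0, 0, 0] ![0, 1, 0, 0] ![1, 0, 0, 0] (fun i => t i) (by rw [ma]; exact (hC a).1 ca)
      (by rw [mb]; exact ht.symm)
    have a2 := hsg k hk ![0, 0, 0, 1] ![0, 1, 0, 0] ![0, 0, 0, 1] (fun i => t i) (by rw [mζ]; exact (hC ζ).1 cζ)
      (by rw [mb]; exact ht.symm)
    have a3 := hsg k hk ![0, 0, 1, 0] ![0, 1, 0, 0] ![0, 0, 1, 0] (fun i => t i) (by rw [mη]; exact (hC η).1 cη)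
      (by rw [mb]; exact ht.symm)
    simp only [Bf, Matrix.cons_val, mul_zero, mul_one, add_zero, zero_add] at a1 a2 a3
    have b1 : (t 1 : ℕ) = 1 := by have := (t 1).2; omega
    have b2 : (t 2 : ℕ) = 0 := by have := (t 2).2; omega
    have b3 : (t 3 : ℕ) = 0 := by have := (t 3).2; omega
    simp only [mon, b1, b2, b3, pow_one, pow_zero, mul_one] at ht
    have b0 : (t 0 : ℕ) = 0 ∨ (t 0 : ℕ) = 1 := by have := (t 0).2; omega
    rcases b0 with b0 | b0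
    · rw [b0, pow_zero, one_mul] at ht
      exact (hC b).2 ht.symm
    exfalso
    rw [b0, pow_one, hcj k (hS hk) b hN.hb hk] at ht
    obtain ⟨s, hs⟩ := cj_eq_of ht.symm
    have hs0 : s ≠ 0 := by
      rintro rfl
      exact (fU k (hS hk) b).ne_zero (by rw [hs, zero_smul])
    have hD0 : D ≠ 0 := by
      rintro rfl
      exact (b * b).ne_zero (by rw [Units.val_mul, hD, zero_smul])
    have h1 : k (D • 1) = D • 1 := by
      rcases mul_self_eq_one_iff.1 (hK D hD0) with e | e <;> rw [e]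
      · rw [one_smul, ra_one (hS hk)]
      · rw [neg_smul, one_smul, ra_neg (hS hk), ra_one (hS hk)]
    have h3 : (a : R K V) * b * (a * b) = -(D • 1) := by
      rw [mul_assoc, ← mul_assoc (b : R K V), hN.hab.symm, neg_mul, mul_neg, mul_assoc, ← mul_assoc, hN.haa, one_mul, hD]
    have h4 := ra_pow (hS hk) b 2
    rw [pow_two, pow_two, hD, h1, ← fU_val k (hS hk), hs, smul_mul_smul_comm, hK s hs0, one_smul, Units.val_mul, h3,
      ← neg_smul] at h4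
    have h5 : D = -D := smul_inj_unit (x := 1) h4
    exact mul_ne_zero h2 hD0 (by linear_combination h5)
  obtain ⟨t, rfl⟩ := hsurj g hg
  have h1 : mon a b η ζ (fun i => t i) ∈ C :=
    mul_mem (mul_mem (mul_mem (pow_mem ca _) (pow_mem cb _)) (pow_mem cη _)) (pow_mem cζ _)
  exact (mul_inv_eq_iff_eq_mul.1 ((hC _).1 h1)).symm

end Cfsg.Agent.SB.Tor
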