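import Cfsg.Agent.SB.Tor.Semi
import Cfsg.Agent.H324.FC.Fld
import Cfsg.Agent.ClassicalGeometry.InvolutiveNorm

/-!
# S5765, classical groups: the row `GU₁(q) ≀ S₄` (helper90)
-/

set_option autoImplicit false
set_option linter.unusedSectionVars false

namespace Cfsg.Agent.SB.Tor

open Cfsg Cfsg.Agent.DS.Cl Cfsg.Agent.DS.Cl.Fwd Module

variable {K V : Type} [Field K] [Finite K] [AddCommGroup V] [Module K V] [Finite V] {h : HF K V}

theorem tau_self (hε : h.ε = 1) (v : V) : h.τ (h.b v v) = h.b v v := by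
  conv_rhs => rw [h.swap v v, hε, one_mul]

/-- Householder maps -/
theorem exists_house (hε : h.ε = 1) {v w : V} (hvw : h.b w w = h.b v v) (hβ : h.b w (w - v) ≠ 0) :
    ∃ u : h.EBˣ, (u : h.EB) * star (u : h.EB) = 1 ∧ h.ap u w = v := by
  have h1 : h.τ (h.b w (w - v)) = h.b w w - h.b v w := by
    rw [h.sub_right, map_sub, tau_self hε, h.swap w v, hε, one_mul]
  have h2 : h.τ (h.b w (w - v)) ≠ 0 := by simpa using hβ
  have h3 : h.b (w - v) (w - v) = h.b w (w - v) + h.τ (h.b w (w - v)) := by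
    rw [h1, h.sub_left, h.sub_right v, ← hvw]
    ring
  refine ⟨isoU h _ (qr_form h hε (κ := (h.b w (w - v))⁻¹) (v := w - v) ?_), isoU_ms _ _ _, ?_⟩
  · rw [h3, map_inv₀]
    field_simp
    ring
  · rw [isoU_val, ap_qr, inv_mul_cancel₀ hβ, one_smul, sub_sub_cancel]

theorem L_eq_of_U (hU : Cl.IsU h) (F : FR h.EB) : F.L = Lmax h.EB := by
  have hτ : h.τ ≠ RingHom.id K := fun e => by
    obtain ⟨c, hc⟩ := hU.2
    exact hc (by rw [e]; rfl)
  obtain ⟨c, hc⟩ := ClassicalGeometry.InvolutiveNorm.exists_add_sigma_eq hτ h.τ_τ (map_one h.τ)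
  refine F.L_eq (h.smul_mem_center c) (h.ap_ext fun v => h.ext_right fun u => ?_)
  rw [h.ap_add, h.add_right, h.b_star, h.ap_one, ap_sc, ap_sc, h.smul_right, h.smul_left, ← add_mul, add_comm, hc,
    one_mul]

/-- vectors spanning the blocks -/
structure UF (D : Finset h.EB) (e : Fin 4 → h.EB) (v : Fin 4 → V) : Prop where
  fr : Fr D
  inj : Function.Injective e
  mem : ∀ a, a ∈ D ↔ ∃ i, e i = a
  ne : ∀ i, h.b (v i) (v i) ≠ 0
  fix : ∀ i, h.ap (e i) (v i) = v i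
  span : ∀ i x, h.ap (e i) x = x → ∃ c : K, x = c • v i

theorem exists_vec (hU : Cl.IsU h) {D : Finset h.EB} (hD : Fr D) {e : h.EB} (he : e ∈ D) (h1 : Cl.rk h e = 1) {n : K}
    (hn : h.τ n = n) (h0 : n ≠ 0) : ∃ v, h.b v v = n ∧ h.ap e v = v ∧ ∀ x, h.ap e x = x → ∃ c : K, x = c • v := by
  have hτ : h.τ ≠ RingHom.id K := fun e => by
    obtain ⟨c, hc⟩ := hU.2
    exact hc (by rw [e]; rfl)
  obtain ⟨⟨_, y, rfl⟩, hx0, hx⟩ := finrank_eq_one_iff'.1 h1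
  have h2 : h.ap e (h.ap e y) = h.ap e y := by rw [← h.ap_mul, hD.idem e he]
  have h3 : ∀ z, h.ap e z = z → ∃ c : K, z = c • h.ap e y := fun z hz => by
    obtain ⟨c, hc⟩ := hx ⟨z, z, hz⟩
    exact ⟨c, (congrArg Subtype.val hc).symm⟩
  have h4 : h.b (h.ap e y) (h.ap e y) ≠ 0 := by
    obtain ⟨u, hu, hu'⟩ := Fr.exists_ne h hD he h2 fun h0 => hx0 (Subtype.ext h0)
    obtain ⟨c, rfl⟩ := h3 u hu
    rw [h.smul_left] at hu'
    exact right_ne_zero_of_mul hu'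
  obtain ⟨c, hc⟩ := ClassicalGeometry.InvolutiveNorm.exists_mul_sigma_eq hτ h.τ_τ
    (a := n / h.b (h.ap e y) (h.ap e y)) (by rw [map_div₀, hn, tau_self hU.1])
  have hc0 : c ≠ 0 := by
    rintro rfl
    rw [zero_mul] at hc
    exact div_ne_zero h0 h4 hc.symm
  refine ⟨c • h.ap e y, ?_, by rw [map_smul, h2], fun x hx => ?_⟩
  · rw [h.smul_left, h.smul_right, ← mul_assoc, hc, div_mul_cancel₀ _ h4]
  · obtain ⟨d, rfl⟩ := h3 x hx
    exact ⟨d / c, by rw [smul_smul, div_mul_cancel₀ _ hc0]⟩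

namespace UF

variable {D : Finset h.EB} {e : Fin 4 → h.EB} {v : Fin 4 → V} (H : UF D e v) {F : FR h.EB}
include H

theorem emem (i : Fin 4) : e i ∈ D := (H.mem _).2 ⟨i, rfl⟩

theorem orth {i j : Fin 4} (hij : i ≠ j) : h.b (v i) (v j) = 0 :=
  Fr.b_eq_zero h H.fr (H.emem i) (H.emem j) (fun e => hij (H.inj e)) (H.fix i) (H.fix j)

theorem vne (i : Fin 4) : v i ≠ 0 := fun h0 => H.ne i (by rw [h0, h.zero_left])

theorem ind (P : V → Prop) (h0 : P 0) (ha : ∀ x y, P x → P y → P (x + y)) (hs : ∀ (c : K) i, P (c • v i)) (x : V) :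
    P x := by
  have h1 : h.ap (∑ a ∈ D, a) x = ∑ a ∈ D, h.ap a x := LinearMap.sum_apply D (fun a => h.ap a) x
  rw [H.fr.sum, h.ap_one] at h1
  rw [h1]
  refine Finset.sum_induction _ P ha h0 fun a haD => ?_
  obtain ⟨i, rfl⟩ := (H.mem a).1 haD
  obtain ⟨c, hc⟩ := H.span i (h.ap (e i) x) (by rw [← h.ap_mul, H.fr.idem _ haD])
  rw [hc]
  exact hs c i

theorem exists_diag (hε : h.ε = 1) (hF : F.L = Lmax h.EB) (i : Fin 4) {c : K} (hc : c * h.τ c = 1) :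
    ∃ u ∈ F.Iso, cj h.EB u ∈ Nt F D ∧ ∀ j, h.ap u (v j) = (if j = i then c else 1) • v j := by
  have hi := H.ne i
  have h1 : ∀ x y, h.b (h.ap (qr h ((1 - c) / h.b (v i) (v i)) (v i)) x)
      (h.ap (qr h ((1 - c) / h.b (v i) (v i)) (v i)) y) = h.b x y := by
    refine qr_form h hε ?_
    rw [map_div₀, map_sub, map_one, tau_self hε]
    field_simp
    linear_combination -hc
  have h2 : isoU h _ h1 ∈ F.Iso := mem_Iso_max hF (isoU_ms _ _ _)
  refine ⟨_, h2, cj_mem_Nt h2 (qr_comm h H.fr (H.emem i) (H.fix i) _), fun j => ?_⟩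
  rw [isoU_val, ap_qr]
  split_ifs with hj
  · rw [hj, div_mul_cancel₀ _ hi, sub_smul, one_smul, sub_sub_cancel]
  · rw [H.orth hj, mul_zero, zero_smul, sub_zero, one_smul]

theorem rel {k : RingAut h.EB} (L : SL h k) {π : Fin 4 → Fin 4} (hπ : ∀ i, k (e i) = e (π i)) {u : h.EBˣ}
    {c : Fin 4 → K} (hu : ∀ j, h.ap u (v j) = c j • v j) (hk : k * cj h.EB u * k⁻¹ = cj h.EB u) :
    ∃ z : K, ∀ i, L.σ (c i) = z * c (π i) := by
  have : Nontrivial V := ⟨_, _, H.vne 0⟩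
  rw [conj_cj] at hk
  obtain ⟨z, hz, hk⟩ := cj_eq_iff.1 hk
  obtain ⟨z₀, hz₀⟩ := exists_sc h hz
  refine ⟨z₀, fun i => ?_⟩
  have h1 := L.conj u (v i)
  have h2 := L.map_fix (H.fix i)
  rw [hπ] at h2
  obtain ⟨m, hm⟩ := H.span _ _ h2
  have h3 : L.g (v i) ≠ 0 := by simpa using H.vne i
  rw [← um_val, hk, Units.val_mul, h.ap_mul, hz₀, map_smul, hu, L.smul] at h1
  apply smul_left_injective K h3
  change L.σ (c i) • L.g (v i) = (z₀ * c (π i)) • L.g (v i)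
  rw [← h1, hm, map_smul, hu, smul_smul, smul_smul, smul_smul]
  congr 1
  ring

/-- two elements of the torus whose centraliser is the torus -/
theorem cent (hε : h.ε = 1) (hF : F.L = Lmax h.EB) {ξ : K} (h1 : ξ * h.τ ξ = 1) (h2 : ξ ^ 2 ≠ 1)
    (h3 : ∀ σ : K →+* K, σ ξ = ξ → σ = RingHom.id K) :
    ∃ v₁ ∈ Nt F D, ∃ v₂ ∈ Nt F D, ∀ k ∈ St F D, k * v₁ * k⁻¹ = v₁ → k * v₂ * k⁻¹ = v₂ → k ∈ Nt F D := by
  have : Nontrivial V := ⟨_, _, H.vne 0⟩
  have hξ0 : ξ ≠ 0 := left_ne_zero_of_mul (h1.trans_ne one_ne_zero)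
  have hξ1 : ξ ≠ 1 := fun e => h2 (by rw [e, one_pow])
  have hξ2 : ξ ^ 2 ≠ ξ := fun e => hξ1 (mul_left_cancel₀ hξ0 (by rw [← pow_two, e, mul_one]))
  obtain ⟨u₀, -, a₀, b₀⟩ := H.exists_diag hε hF 0 h1
  obtain ⟨u₁, -, a₁, b₁⟩ := H.exists_diag hε hF 1 h1
  obtain ⟨u₂, -, a₂, b₂⟩ := H.exists_diag hε hF 2 (c := ξ ^ 2) (by rw [map_pow, ← mul_pow, h1, one_pow])
  refine ⟨_, a₀, cj h.EB (u₁ * u₂), by rw [map_mul]; exact mul_mem a₁ a₂, fun k hk c₁ c₂ => ?_⟩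
  obtain ⟨L⟩ := exists_SL h hk.1.1
  obtain ⟨π, hπ, hπe⟩ := exists_perm H.inj H.mem hk
  obtain ⟨z, hz⟩ := H.rel L hπe b₀ c₁
  obtain ⟨z', hz'⟩ := H.rel L hπe (c := ![1, ξ, ξ ^ 2, 1]) (u := u₁ * u₂) (fun j => by
    rw [Units.val_mul, h.ap_mul, b₂, map_smul, b₁, smul_smul]
    fin_cases j <;> simp) c₂
  have hz1 : z = 1 := by
    by_cases h4 : π 1 = 0
    · have h5 : π 2 ≠ 0 := fun e => absurd (hπ (h4.trans e.symm)) (by decide)
      simpa [h5] using (hz 2).symm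
    · simpa [h4] using (hz 1).symm
  have hπ0 : π 0 = 0 := by
    by_contra h4
    have h5 := hz 0
    rw [if_pos rfl, if_neg h4, hz1, one_mul, map_eq_one_iff _ L.σ.injective] at h5
    exact hξ1 h5
  have hσ : ∀ c, L.σ c = c := by
    have h5 := hz 0
    rw [hπ0, if_pos rfl, hz1, one_mul] at h5
    exact fun c => RingHom.congr_fun (h3 (L.σ : K →+* K) h5) c
  have hz1' : z' = 1 := by simpa [hπ0] using (hz' 0).symm
  refine ⟨hk.1, L.mem_Lin hσ, fun a ha => ?_⟩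
  obtain ⟨i, rfl⟩ := (H.mem a).1 ha
  rw [hπe]
  congr 1
  by_cases hi : i = 0
  · rw [hi, hπ0]
  have h4 : π i ≠ 0 := fun e => hi (hπ (e.trans hπ0.symm))
  have h5 := hz' i
  rw [hσ, hz1', one_mul] at h5
  generalize π i = j at h4 h5
  have h6 : ∀ i j : Fin 4, i ≠ 0 → j ≠ 0 → j = i ∨ (i = 1 ∧ j = 2) ∨ (i = 1 ∧ j = 3) ∨ (i = 2 ∧ j = 1) ∨
    (i = 2 ∧ j = 3) ∨ (i = 3 ∧ j = 1) ∨ (i = 3 ∧ j = 2) := by decide
  rcases h6 i j hi h4 with h7 | ⟨rfl, rfl⟩ | ⟨rfl, rfl⟩ | ⟨rfl, rfl⟩ | ⟨rfl, rfl⟩ | ⟨rfl, rfl⟩ | ⟨rfl, rfl⟩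
  exacts [h7, absurd h5 hξ2.symm, absurd h5 hξ1, absurd h5 hξ2, absurd h5 h2, absurd h5 hξ1.symm, absurd h5 h2.symm]

/-- the torus meets a conjugate of the stabiliser trivially -/
theorem reg (hε : h.ε = 1) {a κ : K} (ha : a ≠ 1) (hκ : κ ≠ 0) (hκa : κ * a ≠ 1)
    (hn : ∀ i, h.b (v i) (v i) = if i = 0 then a else 1) {r : h.EBˣ} (hr : (r : h.EB) * star (r : h.EB) = 1)
    (hrv : (r : h.EB) = qr h κ (∑ i, v i)) :
    ∀ t ∈ Nt F D, (cj h.EB r)⁻¹ * t * cj h.EB r ∈ St F D → t = 1 := by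
  have : Nontrivial V := ⟨_, _, H.vne 0⟩
  intro t ht hts
  obtain ⟨L⟩ := exists_SL h ht.1.1
  have hσ := L.sigma_of_Lin ht.2.1
  have h1 : ∀ i, ∃ c : K, L.g (v i) = c • v i := fun i => H.span i _ (by
    have h2 := L.map_fix (H.fix i)
    rwa [ht.2.2 _ (H.emem i)] at h2)
  choose c hc using h1
  have hN : ∀ i, c i * h.τ (c i) = L.μ := fun i => by
    have h2 := L.form (v i) (v i)
    rw [hc, h.smul_left, h.smul_right, hσ, ← mul_assoc] at h2
    exact mul_right_cancel₀ (H.ne i) h2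
  obtain ⟨j, hj⟩ := (H.mem _).1 (St.mem hts (H.emem 0))
  have h2 : t (cj h.EB r (e 0)) = cj h.EB r (e j) := by rw [hj, ra_mul, ra_mul, ra_apply_inv]
  have h3 : h.ap (cj h.EB r (e 0)) (h.ap r (v 0)) = h.ap r (v 0) := by
    rw [← h.ap_mul, cj_mul_eq, h.ap_mul, H.fix]
  have h4 := L.map_fix h3
  rw [h2, cj_apply, h.ap_mul, h.ap_mul] at h4
  have h5 := congrArg (h.ap (r⁻¹ : h.EBˣ)) h4
  rw [ap_inv_ap] at h5
  obtain ⟨l, hl⟩ := H.span _ _ h5
  have h6 : L.g (h.ap r (v 0)) = l • h.ap r (v j) := by rw [← map_smul, ← hl, ap_ap_inv]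
  have hb : ∀ i k, h.b (v i) (v k) = if i = k then h.b (v i) (v i) else 0 := fun i k => by
    split_ifs with hik
    · rw [hik]
    · exact H.orth hik
  have hs : ∀ (d : Fin 4 → K) k, h.b (∑ i, d i • v i) (v k) = d k * h.b (v k) (v k) := fun d k => by
    have h7 : h.lin (v k) (∑ i, d i • v i) = ∑ i, d i • h.lin (v k) (v i) := by simp only [map_sum, map_smul]
    refine h7.trans ((Finset.sum_eq_single k (fun i _ hi => ?_) (by simp)).trans rfl)
    change d i * h.b (v i) (v k) = 0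
    rw [H.orth hi, mul_zero]
  have hs1 : ∀ k, h.b (∑ i, v i) (v k) = h.b (v k) (v k) := fun k => by simpa using hs 1 k
  have hs2 : ∀ k, h.b (v k) (∑ i, v i) = h.b (v k) (v k) := fun k => by
    rw [h.swap, hs1, hε, one_mul, tau_self hε]
  have h7 : ∀ k, c 0 * h.b (v 0) (v k) - κ * a * (c k * h.b (v k) (v k)) =
      l * (h.b (v j) (v k) - κ * h.b (v j) (v j) * h.b (v k) (v k)) := fun k => by
    have h8 := congrArg (fun x => h.b x (v k)) h6
    simp only [hrv, ap_qr, map_sub, L.smul, hσ, map_sum, hc, h.sub_left, h.smul_left, hs, hs1, hs2] at h8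
    rw [← h8, hn 0, if_pos rfl]
  have h8 : L.μ * a = l * h.τ l * h.b (v j) (v j) := by
    have h9 := L.form (h.ap r (v 0)) (h.ap r (v 0))
    rw [h6, h.smul_left, h.smul_right, hσ, (h.unit_iff r).1 hr, (h.unit_iff r).1 hr, hn 0, if_pos rfl] at h9
    rw [← h9, mul_assoc]
  have ha0 : a ≠ 0 := by simpa [hn] using H.ne 0
  have hτa : h.τ a = a := by simpa [hn] using tau_self hε (v 0)
  have hj0 : j = 0 := by
    by_contra hj0
    obtain ⟨k, hk0, hkj⟩ := (by decide : ∀ j : Fin 4, ∃ k : Fin 4, k ≠ 0 ∧ k ≠ j) j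
    have h9 := h7 k
    rw [H.orth hk0.symm, H.orth hkj.symm, hn k, hn j, if_neg hk0, if_neg hj0] at h9
    rw [hn j, if_neg hj0, mul_one] at h8
    have h10 : l = a * c k := mul_left_cancel₀ hκ (by linear_combination h9)
    rw [h10, map_mul, hτa] at h8
    apply ha
    apply mul_left_cancel₀ (mul_ne_zero L.μ_ne ha0)
    linear_combination (-1 : K) * h8 - a * a * hN k
  subst hj0
  have h9 : ∀ k, c k = l := fun k => by
    have h10 := h7 k
    by_cases hk : k = 0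
    · rw [hk, hn 0, if_pos rfl] at h10
      rw [hk]
      apply mul_left_cancel₀ (mul_ne_zero ha0 (sub_ne_zero.2 hκa))
      linear_combination -h10
    · rw [H.orth (Ne.symm hk), hn k, hn 0, if_neg hk, if_pos rfl] at h10
      apply mul_left_cancel₀ (mul_ne_zero ha0 hκ)
      linear_combination -h10
  refine L.eq_one (c := l) (H.ind _ (by simp) (fun x y hx hy => by rw [map_add, hx, hy, smul_add]) fun d i => ?_)
  rw [L.smul, hσ, hc, h9, smul_comm]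

end UF

theorem rowU1 : Cl.RowU1 := by
  intro K V _ _ _ _ _ h F S D hU hV hK H hD hS hM
  have hε := hU.1
  have hF := L_eq_of_U hU F
  obtain ⟨e, he, hmem⟩ := exists_four (card_four h hD.sum one_pos hV hM)
  let τ : K ≃+* K := ⟨⟨h.τ, h.τ, h.τ_τ, h.τ_τ⟩, map_mul h.τ, map_add h.τ⟩
  obtain ⟨ξ, h1, h2, -, h3⟩ := H324.FC.exists_xi τ h.τ_τ hU.2
  replace h1 : ξ * h.τ ξ = 1 := h1
  have h4 : h.τ ξ ≠ ξ := fun e => by
    obtain ⟨c, hc⟩ := hU.2
    exact hc (RingHom.congr_fun (h3 _ e) c)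
  have hξ0 : ξ ≠ 0 := left_ne_zero_of_mul (h1.trans_ne one_ne_zero)
  have h5 : ξ ^ 2 ≠ 1 := fun e => h4 (mul_left_cancel₀ hξ0 (by rw [h1, ← e, pow_two]))
  have h6 : 1 - ξ ≠ 0 := fun e => h5 (by rw [← sub_eq_zero.1 e, one_pow])
  have h7 : 1 - h.τ ξ ≠ 0 := by
    rw [← map_one h.τ, ← map_sub]
    exact (map_ne_zero h.τ).2 h6
  have hτ0 : h.τ ξ ≠ 0 := by simpa using hξ0
  let a : K := -1 - ξ - h.τ ξ
  have ha : h.τ a = a := by
    simp only [a, map_sub, map_neg, map_one, h.τ_τ]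
    ring
  have ha0 : a ≠ 0 := fun e => h2 hK (by
    simp only [a] at e
    linear_combination (1 - ξ) * ξ * e + (1 - ξ) * h1)
  have ha1 : a ≠ 1 := fun e => h5 (by
    simp only [a] at e
    have h8 : (ξ + 1) ^ 2 = 0 := by linear_combination (-ξ) * e - h1
    have h9 : ξ = -1 := eq_neg_of_add_eq_zero_left (pow_eq_zero_iff two_ne_zero |>.1 h8)
    rw [h9]
    ring)
  have h8 : ∀ i : Fin 4, ∃ v, h.b v v = (if i = 0 then a else 1) ∧ h.ap (e i) v = v ∧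
      ∀ x, h.ap (e i) x = x → ∃ c : K, x = c • v := fun i =>
    exists_vec hU hD ((hmem _).2 ⟨i, rfl⟩) (hM.2 _ ((hmem _).2 ⟨i, rfl⟩))
      (by split_ifs; exacts [ha, map_one _]) (by split_ifs; exacts [ha0, one_ne_zero])
  choose v hn hfix hspan using h8
  have U : UF D e v := ⟨hD, he, hmem, fun i => by rw [hn]; split_ifs; exacts [ha0, one_ne_zero], hfix, hspan⟩
  have hs2 : ∀ k, h.b (v k) (∑ i, v i) = h.b (v k) (v k) := fun k => by
    rw [Fin.sum_univ_four, h.add_right, h.add_right, h.add_right]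
    fin_cases k <;> simp [U.orth]
  have hvv : h.b (∑ i, v i) (∑ i, v i) = (1 - ξ) * (1 - h.τ ξ) := by
    conv_lhs => enter [2]; rw [Fin.sum_univ_four]
    rw [h.add_left, h.add_left, h.add_left, hs2, hs2, hs2, hs2, hn, hn, hn, hn]
    simp only [a, Fin.isValue, if_true, Fin.reduceEq, if_false]
    linear_combination -h1
  have hww : h.b ((1 - ξ) • v 1) ((1 - ξ) • v 1) = (1 - ξ) * (1 - h.τ ξ) := by
    rw [h.smul_left, h.smul_right, hn, map_sub, map_one]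
    simp
  obtain ⟨g, hg, hgw⟩ := exists_house hε (hww.trans hvv.symm) (by
    rw [h.sub_right, hww, h.smul_left, hs2, hn]
    simp only [Fin.isValue, Fin.reduceEq, if_false]
    rw [← mul_sub, sub_sub_cancel_left]
    exact mul_ne_zero h6 (neg_ne_zero.2 hτ0))
  have h9 := qr_form h hε (κ := (1 - h.τ ξ)⁻¹) (v := (1 - ξ) • v 1) (by
    rw [hww, map_inv₀, map_sub, map_one, h.τ_τ]
    field_simp
    linear_combination -h1)
  have hk : isoU h _ h9 ∈ F.Iso := mem_Iso_max hF (isoU_ms _ _ _)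
  have hg' : g ∈ F.Iso := mem_Iso_max hF hg
  obtain ⟨x, hx, hxS⟩ := exists_conj (S := St F D) hg' hk
    (cj_mem_St hk (qr_comm h hD (U.emem 1) (by rw [map_smul, hfix]) _))
  obtain ⟨v₁, a₁, v₂, a₂, hc⟩ := U.cent hε hF h1 h5 h3
  refine good_of_four H (le_St H.le hS) (four_of_trick' (fun _ => St.aut) Nt_le Nt_conj hx
    (fun t ht hts => ?_) a₁ a₂ hc)
  refine U.reg hε ha1 (inv_ne_zero h7) (fun e => h4 ?_) hn (mul_mem (mul_mem hg' hk) (inv_mem hg')).1 ?_ t ht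
    (hxS t hts)
  · rw [inv_mul_eq_one₀ h7] at e
    have h10 : ξ = -2 := by
      simp only [a] at e
      linear_combination e
    rw [h10, map_neg, map_ofNat]
  · rw [Units.val_mul, Units.val_mul, isoU_val, qr_conj h hg, hgw]

end Cfsg.Agent.SB.Tor
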