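import Cfsg.Agent.SB.Tor.Hes
import Cfsg.Agent.SB.Tor.Ext
import Cfsg.Agent.SB.Tor.U1
import Cfsg.Agent.SB.Idem.Form
import Cfsg.Agent.DS.Cl.ModU

/-!
# S5765, classical groups: the row `3² : SL₂(3)` in `U₃(q)` (helper90)
-/

set_option autoImplicit false
set_option linter.unusedSectionVars false

namespace Cfsg.Agent.SB.Tor

open Cfsg Cfsg.Agent.DS.Cl Cfsg.Agent.DS.Cl.Fwd Module Matrix
open Cfsg.Agent.H198.FC (R)
open Cfsg.Agent.SB.Idem (piB piB_apply gram lift_max b_sum_left b_sum_right ap_basis)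
open Cfsg.Agent.LieClassical.HermSiegel (mat mkSU mat_one mat_mul herm_act)
open scoped commutatorElement

variable {K V : Type} [Field K] [Finite K] [AddCommGroup V] [Module K V] [Finite V] {h : HF K V}

theorem det_comm (F : FR h.EB) {u : h.EBˣ} (hu : u ∈ (⁅F.Iso, F.Iso⁆ : Subgroup _)) : LinearMap.det (h.ap u) = 1 := by
  have h1 : (⁅F.Iso, F.Iso⁆ : Subgroup _) ≤ (detU h).ker := Subgroup.commutator_le.2 fun a _ b _ => by
    rw [MonoidHom.mem_ker, map_commutatorElement, commutatorElement_eq_one_iff_mul_comm, mul_comm]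
  exact congrArg Units.val (h1 hu)

/-- the special unitary group lies in the commutator group -/
theorem su_le_comm (hU : Cl.IsU h) (F : FR h.EB) {n : ℕ} (hn : 3 ≤ n) (hK : n = 3 → Nat.card K ≠ 4)
    (c : Basis (Fin n) K V) (hc : ∀ i j, h.b (c i) (c j) = if i = j then 1 else 0) {u : h.EBˣ} (hu : u ∈ F.Iso)
    (hd : LinearMap.det (h.ap u) = 1) : u ∈ (⁅F.Iso, F.Iso⁆ : Subgroup _) := by
  have _ := Fintype.ofFinite K
  let τ : K ≃+* K := ⟨⟨h.τ, h.τ, h.τ_τ, h.τ_τ⟩, map_mul h.τ, map_add h.τ⟩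
  obtain ⟨q, -, hq, hτ⟩ := H324.FC.exists_q τ h.τ_τ hU.2
  replace hτ : ∀ x, h.τ x = x ^ q := hτ
  have h1 : ∀ v w, h.b v w = hermForm n K q (c.repr v) (c.repr w) := fun v w => by
    conv_lhs => rw [← c.sum_repr v, ← c.sum_repr w, b_sum_left]
    refine Finset.sum_congr rfl fun i _ => ?_
    rw [b_sum_right]
    simp [hc, hτ]
  let ψ : Matrix (Fin n) (Fin n) K →* h.EB := (Matrix.toLinAlgEquiv c).toMonoidHom
  have h2 : ∀ M v, ⇑(c.repr (h.ap (ψ M) v)) = M *ᵥ c.repr v := fun M v => by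
    rw [← LinearMap.toMatrix_mulVec_repr c c]
    exact congrArg (· *ᵥ _) (LinearMap.toMatrix_toLin c c M)
  let φ₀ : SU n K q →* Matrix (Fin n) (Fin n) K := ⟨⟨mat, mat_one⟩, mat_mul⟩
  let φ : SU n K q →* h.EBˣ := (ψ.comp φ₀).toHomUnits
  have hle : φ.range ≤ F.Iso := by
    rintro _ ⟨A, rfl⟩
    refine mem_Iso_max (L_eq_of_U hU F) ((h.unit_iff _).2 fun x y => ?_)
    rw [h1, h1]
    exact (congrArg₂ _ (h2 _ x) (h2 _ y)).trans (herm_act A _ _)
  refine Subgroup.commutator_mono hle hle ?_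
  rw [comm_range, LieClassical.HermPerfect.commutator_SU_eq_top (by rwa [← Nat.card_eq_fintype_card]) hn
    (fun e => hK e.1 (by rw [hq, e.2]; rfl)), ← MonoidHom.range_eq_map]
  refine ⟨mkSU (LinearMap.toMatrix c c (h.ap u)) (by rw [LinearMap.det_toMatrix, hd]) fun x y => ?_,
    Units.ext (Matrix.toLin_toMatrix c c _)⟩
  obtain ⟨x, rfl⟩ := c.equivFun.surjective x
  obtain ⟨y, rfl⟩ := c.equivFun.surjective y
  rw [c.equivFun_apply, c.equivFun_apply, LinearMap.toMatrix_mulVec_repr, LinearMap.toMatrix_mulVec_repr, ← h1, ← h1]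
  exact (h.unit_iff u).1 hu.1 x y

variable (h) in
/-- automorphisms as permutations -/
def tp : RingAut h.EB →* Equiv.Perm (R K V) := RingAut.toPerm h.EB

theorem tp_injective : Function.Injective (tp h) := fun _ _ e => RingEquiv.ext fun a => Equiv.congr_fun e a

theorem dat_tp {F : FR h.EB} {S Y : Subgroup (RingAut h.EB)} {r a : ℕ} (hr : r.Prime) (ha : 1 ≤ a)
    (hV : finrank K V = r ^ a) (H : Cl.ExtD F S Y r) (hc : Nat.card Y = r ^ (2 * a)) :
    H716.FC.Dat (Y.map (tp h)) r a := by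
  obtain ⟨h1, h2, h3, -, h5⟩ := H
  have : Module.Finite K V := Module.Finite.of_finite
  have : Nontrivial V := Module.nontrivial_of_finrank_pos (R := K) (by rw [hV]; exact pow_pos hr.pos a)
  refine ⟨hr, ha, hV, ?_, ?_, ?_, ?_, ?_⟩
  · rintro _ ⟨γ, hγ, rfl⟩
    obtain ⟨u, -, rfl⟩ := (h1 hγ).2
    exact ⟨u, rfl⟩
  · rw [Subgroup.card_map_of_injective tp_injective, hc]
  · rintro _ ⟨γ, hγ, rfl⟩
    rw [← map_pow, h3 _ hγ, map_one]
  · rintro _ ⟨γ, hγ, rfl⟩ _ ⟨δ, hδ, rfl⟩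
    rw [← map_mul, ← map_mul, h2 _ hγ _ hδ]
  · set W := Submodule.span K {X : R K V | ∃ x : (R K V)ˣ, (x : R K V) = X ∧ H198.FC.cj K _ x ∈ Y.map (tp h)} with hW
    have w1 : (1 : R K V) ∈ W := Submodule.subset_span ⟨1, rfl, by rw [map_one]; exact one_mem _⟩
    have wm : ∀ X ∈ W, ∀ X' ∈ W, X * X' ∈ W := by
      intro X hX X' hX'
      have h6 := Submodule.mul_mem_mul hX hX'
      rw [hW, Submodule.span_mul_span] at h6
      refine Submodule.span_mono ?_ h6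
      rintro _ ⟨_, ⟨x, rfl, hx⟩, _, ⟨y, rfl, hy⟩, rfl⟩
      exact ⟨x * y, rfl, by rw [map_mul]; exact mul_mem hx hy⟩
    let B : Subring h.EB :=
      { carrier := {a | h.ap a ∈ W}
        mul_mem' := fun {a b} ha hb => wm _ ha _ hb
        one_mem' := w1
        add_mem' := fun {a b} ha hb => W.add_mem ha hb
        zero_mem' := W.zero_mem
        neg_mem' := fun {a} ha => W.neg_mem ha }
    have hB : ⊤ ≤ B := by
      rw [← h5, Subring.closure_le]
      rintro a (ha | ⟨u, hu, huY, rfl⟩)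
      · obtain ⟨k, hk⟩ := exists_sc h ha
        show h.ap a ∈ W
        rw [show h.ap a = k • 1 from LinearMap.ext hk]
        exact Submodule.smul_mem W k w1
      · exact Submodule.subset_span (R := K) (M := R K V) ⟨u, rfl, cj _ u, huY, rfl⟩
    rw [eq_top_iff]
    intro X _
    exact hB (Subring.mem_top (h.eb X))

/-- the normal form of `Y` -/
structure HB (Y : Subgroup (RingAut h.EB)) (c : Basis (Fin 3) K V) (P Z : h.EBˣ) (χ : Fin 3 → K) : Prop where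
  on : ∀ i j, h.b (c i) (c j) = if i = j then 1 else 0
  PY : cj _ P ∈ Y
  ZY : cj _ Z ∈ Y
  P3 : P ^ 3 = 1
  Z3 : Z ^ 3 = 1
  hP : ∀ i, h.ap P (c i) = c (i + 1)
  hZ : ∀ i, h.ap Z (c i) = χ i • c i
  inj : Function.Injective χ
  cube : ∀ i, χ i ^ 3 = 1
  lift : ∀ u : h.EBˣ, cj _ u ∈ Y → u ^ 3 = 1 → ∃ (i : Fin 3) (l : Fin 3 → K), (∀ m, l m ^ 3 = 1) ∧
    ∀ m, h.ap u (c m) = l m • c (m + i)

theorem exists_HB (hU : Cl.IsU h) (hV : finrank K V = 3) {F : FR h.EB} {S Y : Subgroup (RingAut h.EB)}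
    (H : Cl.ExtD F S Y 3) (hc : Nat.card Y = 9) : ∃ c P Z χ, HB Y c P Z χ := by
  have : Module.Finite K V := Module.Finite.of_finite
  have hD := dat_tp Nat.prime_three le_rfl hV H hc
  have hnt := hD.nontriv
  have hmem : ∀ u : h.EBˣ, H198.FC.cj K V u ∈ Y.map (tp h) ↔ cj _ u ∈ Y := fun u =>
    Subgroup.mem_map_iff_mem (x := cj _ u) tp_injective
  have hA : ∀ u : (R K V)ˣ, H198.FC.cj K V u ∈ Y.map (tp h) →
      ∃ x ∈ (⁅F.Iso, F.Iso⁆ : Subgroup h.EBˣ), H198.FC.cj K V x = H198.FC.cj K V u := by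
    rintro u ⟨γ, hγ, e⟩
    obtain ⟨x, hx, rfl⟩ := (H.1 hγ).2
    exact ⟨x, hx, e⟩
  obtain ⟨ω, P, Z, hPA, hZA, hPI, hZI, hH⟩ : ∃ (ω : K) (P Z : (R K V)ˣ), H198.FC.cj K V P ∈ Y.map (tp h) ∧
      H198.FC.cj K V Z ∈ Y.map (tp h) ∧ (show h.EBˣ from P) ∈ F.Iso ∧ (show h.EBˣ from Z) ∈ F.Iso ∧
      H710.FC.Heis 3 ω P Z := by
    obtain ⟨u, hu, hns⟩ := hD.exists_nonsc
    obtain ⟨v, hv, ε, hε, hε1⟩ := hD.exists_eps hns fun v hv => hD.comm hv hu
    obtain ⟨P, hP, hPu⟩ := hA u hu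
    obtain ⟨Z, hZ, hZv⟩ := hA v hv
    have hdP := det_comm F hP
    have hdZ := det_comm F hZ
    replace hP := F.comm_le_Iso hP
    replace hZ := F.comm_le_Iso hZ
    revert P Z
    intro (P : (R K V)ˣ) hPu (Z : (R K V)ˣ) hZv hdP hdZ hP hZ
    have hP' : P ∈ H716.FC.Lf (Y.map (tp h)) := by rw [H716.FC.mem_Lf, hPu]; exact hu
    have hZ' : Z ∈ H716.FC.Lf (Y.map (tp h)) := by rw [H716.FC.mem_Lf, hZv]; exact hv
    obtain ⟨c, hc⟩ := H716.FC.cj_eq_of hPu
    obtain ⟨d, hd⟩ := H716.FC.cj_eq_of hZv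
    have h1 : (Z : R K V) * P = ε • ((P : R K V) * Z) := by
      rw [hc, hd, smul_mul_smul_comm, smul_mul_smul_comm, hε, smul_comm, mul_comm d c]
    have h2 : ∀ x y : (R K V)ˣ, (∃ s : K, (x : R K V) = s • (1 : R K V)) → (x : R K V) * y = y * x := by
      rintro x y ⟨s, hs⟩
      rw [hs, smul_mul_assoc, mul_smul_comm, one_mul, mul_one]
    have h3 : (Z : R K V) * P ≠ P * Z := fun h0 => hε1 (H716.FC.smul_inj_unit (x := P * Z) (by
      rw [Units.val_mul, ← h1, h0, one_smul]))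
    refine ⟨ε, P, Z, hP', hZ', hP, hZ, Nat.prime_three, by norm_num, ?_, hD.hn,
      cube_eq_one hD hP' (fun h0 => h3 (h2 P Z h0).symm) hdP, cube_eq_one hD hZ' (fun h0 => h3 (h2 Z P h0)) hdZ, h1⟩
    have : Fact (Nat.Prime 3) := ⟨Nat.prime_three⟩
    rw [← orderOf_eq_prime (hD.eps_pow hv hε) hε1]
    exact IsPrimitiveRoot.orderOf ε
  obtain ⟨b, hbZ, hbP⟩ := hH.exists_basis
  let χ : Fin 3 → K := H710.FC.Heis.ch 3 ω
  have hinj : Function.Injective χ := hH.ch_inj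
  have hcube : ∀ i, χ i ^ 3 = 1 := fun i => by
    show (ω ^ _) ^ 3 = 1
    rw [← pow_mul, mul_comm, pow_mul, hH.hω, one_pow]
  revert b
  intro (b : Basis (Fin 3) K V) (hbZ : ∀ i, (Z : R K V) (b i) = χ i • b i) (hbP : ∀ i, (P : R K V) (b i) = b (i + 1))
  have g1 : ∀ i j, h.b (b (i + 1)) (b (j + 1)) = h.b (b i) (b j) := fun i j => by
    rw [← hbP, ← hbP]
    exact (h.unit_iff _).1 hPI.1 _ _
  have g2 : ∀ i j, χ i * h.τ (χ j) * h.b (b i) (b j) = h.b (b i) (b j) := fun i j => by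
    rw [mul_assoc, ← h.smul_right, ← h.smul_left, ← hbZ, ← hbZ]
    exact (h.unit_iff _).1 hZI.1 _ _
  have g3 : ∀ i j, h.b (b i) (b j) ≠ 0 → ∀ k, χ (i + k) * h.τ (χ (j + k)) = 1 := fun i j h0 k => by
    have h1 : h.b (b (i + k)) (b (j + k)) = h.b (b i) (b j) := by
      fin_cases k
      · simp
      · exact g1 i j
      · have e : ∀ i : Fin 3, i + 2 = i + 1 + 1 := by decide
        show h.b (b (i + 2)) (b (j + 2)) = _
        rw [e i, e j, g1, g1]
    exact mul_right_cancel₀ h0 (by rw [one_mul, ← h1, g2])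
  have hω0 : χ 0 = 1 := hH.ch_zero
  have g4 : ∀ i j, i ≠ j → h.b (b i) (b j) = 0 := fun i j hij => by
    by_contra h0
    have h1 := g3 i j h0 (-j)
    rw [add_neg_cancel, hω0, map_one, mul_one, ← hω0] at h1
    exact hij (add_neg_eq_zero.1 (hinj h1))
  have g5 : ∀ i, h.b (b i) (b i) = h.b (b 0) (b 0) := fun i => by
    fin_cases i
    exacts [rfl, g1 0 0, (g1 1 1).trans (g1 0 0)]
  have g6 : h.b (b 0) (b 0) ≠ 0 := fun h0 => b.ne_zero 0 (h.nondeg _ fun u => by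
    rw [← b.sum_repr u, b_sum_left, Fin.sum_univ_three, h0, g4 1 0 (by decide), g4 2 0 (by decide)]
    simp)
  have hτ : h.τ ≠ RingHom.id K := fun e => by
    obtain ⟨c, hc⟩ := hU.2
    exact hc (by rw [e]; rfl)
  obtain ⟨s, hs⟩ := ClassicalGeometry.InvolutiveNorm.exists_mul_sigma_eq hτ h.τ_τ (a := (h.b (b 0) (b 0))⁻¹)
    (by rw [map_inv₀, tau_self hU.1])
  have hs0 : s ≠ 0 := left_ne_zero_of_mul (hs.trans_ne (inv_ne_zero g6))
  let c : Basis (Fin 3) K V := b.unitsSMul fun _ => Units.mk0 s hs0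
  have hcb : ∀ i, c i = s • b i := fun i => b.unitsSMul_apply i
  have hcP : ∀ i, (P : R K V) (c i) = c (i + 1) := fun i => by rw [hcb, hcb, map_smul, hbP]
  have hcZ : ∀ i, (Z : R K V) (c i) = χ i • c i := fun i => by rw [hcb, map_smul, hbZ, smul_comm]
  refine ⟨c, P, Z, χ, fun i j => ?_, (hmem _).1 hPA, (hmem _).1 hZA, hH.Pr, hH.Zr, hcP, hcZ, hinj, hcube, ?_⟩
  · rw [hcb, hcb, h.smul_left, h.smul_right, ← mul_assoc, hs]
    split_ifs with hij
    · rw [hij, g5 j, inv_mul_cancel₀ g6]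
    · rw [g4 i j hij, mul_zero]
  · intro u hu hu3
    replace hu := (hmem u).2 hu
    replace hu3 : (h.ap u : R K V) ^ 3 = 1 := congrArg Units.val hu3
    obtain ⟨c₁, h1⟩ := H710.FC.exists_comm (hD.hcomm _ hu _ hZA)
    obtain ⟨c₂, h2⟩ := H710.FC.exists_comm (hD.hcomm _ hu _ hPA)
    obtain ⟨i, j, hij⟩ := hH.lift h1 h2
    obtain ⟨t, ht⟩ := H716.FC.cj_eq_of hij
    replace ht : (h.ap u : R K V) = t • ((P ^ i * Z ^ j : (R K V)ˣ) : R K V) := ht
    have h3 : (P ^ i * Z ^ j) ^ 3 = 1 := by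
      rw [H710.FC.mul_pow_r Nat.prime_three (by norm_num) hD.hpow hD.hcomm
        (by rw [map_pow]; exact pow_mem hPA i) (by rw [map_pow]; exact pow_mem hZA j), ← pow_mul, ← pow_mul,
        mul_comm i, mul_comm j, pow_mul, pow_mul, hH.Pr, hH.Zr, one_pow, one_pow, one_mul]
    have h4 : t ^ 3 = 1 := H716.FC.smul_inj_unit (V := V) (x := 1) (by
      rw [ht, smul_pow, ← Units.val_pow_eq_pow_val, h3] at hu3
      rw [hu3, one_smul, Units.val_one])
    have h5 : ∀ i : ℕ, ∃ k : Fin 3, ∀ m, ((P : R K V) ^ i) (c m) = c (m + k) := fun i => by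
      induction i with
      | zero => exact ⟨0, fun m => by simp⟩
      | succ i ih =>
        obtain ⟨k, hk⟩ := ih
        exact ⟨k + 1, fun m => by rw [pow_succ', Module.End.mul_apply, hk, hcP, add_assoc]⟩
    have h6 : ∀ (j : ℕ) m, ((Z : R K V) ^ j) (c m) = χ m ^ j • c m := fun j m => by
      induction j with
      | zero => simp
      | succ j ih => rw [pow_succ', Module.End.mul_apply, ih, map_smul, hcZ, smul_smul, pow_succ]
    obtain ⟨k, hk⟩ := h5 i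
    refine ⟨k, fun m => t * χ m ^ j, fun m => ?_, fun m => ?_⟩
    · rw [mul_pow, h4, ← pow_mul, mul_comm j, pow_mul, hcube, one_pow, one_mul]
    · rw [ht, Units.val_mul, Units.val_pow_eq_pow_val, Units.val_pow_eq_pow_val, LinearMap.smul_apply,
        Module.End.mul_apply, h6, map_smul, hk, smul_smul]

theorem HB.hes {Y : Subgroup (RingAut h.EB)} {c : Basis (Fin 3) K V} {P Z : h.EBˣ} {χ : Fin 3 → K}
    (H : HB Y c P Z χ) {f : RingAut h.EB} (hf : ∀ y ∈ Y, f * y * f⁻¹ ∈ Y) (σ : K →+* K) (g : V → V)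
    (g0 : ∀ v, v ≠ 0 → g v ≠ 0) (gs : ∀ (a : K) v, g (a • v) = σ a • g v)
    (gc : ∀ a v, h.ap (f a) (g v) = g (h.ap a v)) :
    HesA (Matrix.of fun m n => c.repr (g (c n)) m) ∨ HesB (Matrix.of fun m n => c.repr (g (c n)) m) := by
  have key : ∀ w : h.EBˣ, cj _ w ∈ Y → w ^ 3 = 1 → ∃ (i : Fin 3) (l : Fin 3 → K), (∀ m, l m ^ 3 = 1) ∧
      ∀ m v, c.repr (g (h.ap w v)) (m + i) = l m * c.repr (g v) m := by
    intro w hw hw3
    obtain ⟨i, l, hl, hi⟩ := H.lift (um f w) (by rw [← conj_cj]; exact hf _ hw) (by rw [← map_pow, hw3, map_one])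
    refine ⟨i, l, hl, fun m v => ?_⟩
    rw [← gc]
    refine LinearMap.congr_fun (c.ext (f₁ := (c.coord (m + i)).comp (h.ap (um f w))) (f₂ := l m • c.coord m)
      fun n => ?_) (g v)
    simp only [LinearMap.comp_apply, hi, map_smul, Basis.coord_apply, Basis.repr_self, LinearMap.smul_apply,
      Finsupp.single_apply, add_left_inj, smul_eq_mul]
    split_ifs with e
    · rw [e]
    · rw [mul_zero, mul_zero]
  obtain ⟨k, l, hl, hk⟩ := key P H.PY H.P3
  obtain ⟨i, l', hl', hi⟩ := key Z H.ZY H.Z3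
  have h1 : ∀ m n, σ (χ n) * c.repr (g (c n)) (m + i) = l' m * c.repr (g (c n)) m := fun m n => by
    rw [← hi, H.hZ, gs, map_smul]
    rfl
  refine hes_of (k := k) (i := i) (fun n => ?_) (fun m n => ?_) (fun m n => ?_) fun h0 m n n' a a' => ?_
  · by_contra e
    push Not at e
    exact g0 _ (c.ne_zero n) (c.repr.injective (by rw [map_zero]; exact Finsupp.ext e))
  · rw [Matrix.of_apply, Matrix.of_apply, ← H.hP, hk, mul_pow, hl, one_mul]
  · have h2 := congrArg (· ^ 3) (h1 m n)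
    simpa only [Matrix.of_apply, mul_pow, ← map_pow, H.cube, hl', map_one, one_mul] using h2
  · have h2 := h1 m n
    have h3 := h1 m n'
    rw [h0, add_zero] at h2 h3
    exact H.inj (σ.injective ((mul_right_cancel₀ a h2).trans (mul_right_cancel₀ a' h3).symm))

theorem exists_blk (hU : Cl.IsU h) (hK : Nat.card K ≠ 4) : ∃ a b η : K, Blk a b (h.τ a) (h.τ b) ∧ η * h.τ η = 1 ∧
    η ^ 3 ≠ 1 := by
  have hτ : h.τ ≠ RingHom.id K := fun e => by
    obtain ⟨c, hc⟩ := hU.2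
    exact hc (by rw [e]; rfl)
  let τ : K ≃+* K := ⟨⟨h.τ, h.τ, h.τ_τ, h.τ_τ⟩, map_mul h.τ, map_add h.τ⟩
  obtain ⟨ξ, h1, h2, -, h3⟩ := H324.FC.exists_xi τ h.τ_τ hU.2
  replace h1 : ξ * h.τ ξ = 1 := h1
  have h4 : h.τ ξ ≠ ξ := fun e => hτ (h3 _ e)
  obtain ⟨a, ha0, hgen, -⟩ := H324.FC.exists_gen K
  have h5 : 1 - a * h.τ a ≠ 0 := fun e => by
    obtain ⟨k, hk⟩ := hgen (ξ + 1) fun e => h4 (by rw [eq_neg_of_add_eq_zero_left e, map_neg, map_one])
    have h6 : (ξ + 1) * h.τ (ξ + 1) = 1 := by rw [hk, map_pow, ← mul_pow, ← sub_eq_zero.1 e, one_pow]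
    rw [map_add, map_one] at h6
    exact h2 hK (by linear_combination (ξ - 1) * ξ * h6 - (ξ - 1) * (ξ + 1) * h1)
  have h6 : h.τ (1 - a * h.τ a) = 1 - a * h.τ a := by rw [map_sub, map_one, map_mul, h.τ_τ, mul_comm]
  obtain ⟨b, hb, hb'⟩ : ∃ b, b * h.τ b = 1 - a * h.τ a ∧ ((2 : K) = 0 → b = h.τ b) := by
    by_cases e : (2 : K) = 0
    · have h7 : Function.Injective fun x : K => x * x := fun x y hxy => by
        have h8 : (x - y) ^ 2 = 0 := by linear_combination (hxy : x * x = y * y) + (y * y - x * y) * e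
        exact sub_eq_zero.1 (pow_eq_zero_iff two_ne_zero |>.1 h8)
      obtain ⟨b, hb⟩ := Finite.surjective_of_injective h7 (1 - a * h.τ a)
      have h8 : b = h.τ b := h7 (by
        show b * b = h.τ b * h.τ b
        rw [← map_mul, show b * b = _ from hb, h6])
      exact ⟨b, by rw [← h8]; exact hb, fun _ => h8⟩
    · obtain ⟨b, hb⟩ := ClassicalGeometry.InvolutiveNorm.exists_mul_sigma_eq hτ h.τ_τ h6
      exact ⟨b, hb, fun e' => absurd e' e⟩
  refine ⟨a, b, ξ, ⟨by rw [hb]; ring, ha0, left_ne_zero_of_mul (hb.trans_ne h5), by simpa using ha0,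
    right_ne_zero_of_mul (hb.trans_ne h5), fix_cube hK hgen, fun e => ⟨hb' e, fun e' => ?_⟩⟩, h1, h2 hK⟩
  exact hτ (RingHom.ext (fix_cube hK hgen h.τ (by rw [map_pow, e'])))

theorem four_U3d (hU : Cl.IsU h) (hV : finrank K V = 3) (hK : Nat.card K ≠ 4) {F : FR h.EB}
    {S Y : Subgroup (RingAut h.EB)} (hS : S ≤ SAut h.EB) (H : Cl.ExtD F S Y 3) (hc : Nat.card Y = 9) : Four F.S S := by
  obtain ⟨c, P, Z, χ, B⟩ := exists_HB hU hV H hc
  have : Nontrivial V := ⟨_, _, c.ne_zero 0⟩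
  obtain ⟨a, b, η, hB, hη, hη3⟩ := exists_blk hU hK
  have hg : gram h c = 1 := by
    ext i j
    rw [Matrix.one_apply]
    exact B.on i j
  have lift : ∀ X : Matrix (Fin 3) (Fin 3) K, Xᵀ * X.map h.τ = 1 → X.det = 1 →
      ∃ u : h.EBˣ, cj _ u ∈ F.S ∧ piB h c u = X := fun X h1 h2 => by
    obtain ⟨u, hu, rfl⟩ := lift_max h c (L_eq_of_U hU F) (X := X) (by rw [hg, mul_one, h1])
    exact ⟨u, ⟨u, su_le_comm hU F le_rfl (fun _ => hK) c B.on hu (by rwa [piB_apply, LinearMap.det_toMatrix] at h2),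
      rfl⟩, rfl⟩
  have hd := hB.det
  obtain ⟨x, hx, ex⟩ := lift !![η, 0, 0; 0, h.τ η, 0; 0, 0, 1] (by
    ext i j
    fin_cases i <;> fin_cases j <;> simp [Matrix.mul_apply, Fin.sum_univ_three, h.τ_τ, hη, mul_comm (h.τ η)])
    (by simp [Matrix.det_fin_three, hη])
  obtain ⟨y, hy, ey⟩ := lift !![a, b, 0; -h.τ b, h.τ a, 0; 0, 0, 1] (by
    ext i j
    fin_cases i <;> fin_cases j <;> simp [Matrix.mul_apply, Fin.sum_univ_three, h.τ_τ] <;>
      first | linear_combination hd | ring)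
    (by simp [Matrix.det_fin_three]; linear_combination hd)
  obtain ⟨z, hz, ez⟩ := lift !![1, 0, 0; 0, a, b; 0, -h.τ b, h.τ a] (by
    ext i j
    fin_cases i <;> fin_cases j <;> simp [Matrix.mul_apply, Fin.sum_univ_three, h.τ_τ] <;>
      first | linear_combination hd | ring)
    (by simp [Matrix.det_fin_three]; linear_combination hd)
  refine ⟨_, hx, _, hy, _, hz, fun f hf fx fy fz => ?_⟩
  obtain ⟨L⟩ := exists_SL h (hS hf)
  have key : ∀ u : h.EBˣ, (cj _ u)⁻¹ * f * cj _ u ∈ S → ∃ M' : Matrix (Fin 3) (Fin 3) K, (HesA M' ∨ HesB M') ∧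
      piB h c u * M' = (Matrix.of fun m n => c.repr (L.g (c n)) m) * (piB h c u).map (L.σ : K →+* K) := by
    intro u hu
    refine ⟨_, B.hes (H.2.2.2.1 _ hu) (L.σ : K →+* K) (fun v => h.ap (u⁻¹ : h.EBˣ) (L.g (h.ap u v)))
      (fun v hv e => hv ?_) (fun a v => ?_) (fun a v => ?_), ?_⟩
    · have h1 := congrArg (h.ap u) e
      rw [ap_ap_inv, map_zero, map_eq_zero_iff _ L.g.injective] at h1
      rw [← ap_inv_ap h u v, h1, map_zero]
    · rw [map_smul, L.smul, map_smul]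
      rfl
    · rw [← map_inv, ra_mul, ra_mul, cj_apply, inv_inv, h.ap_mul, h.ap_mul, ap_ap_inv, L.conj, ← h.ap_mul (cj _ u a),
        cj_mul_eq, h.ap_mul]
    · ext m n
      have h1 := congrFun (LinearMap.toMatrix_mulVec_repr c c (h.ap u) (h.ap (u⁻¹ : h.EBˣ) (L.g (h.ap u (c n))))) m
      refine h1.trans ?_
      rw [ap_ap_inv, ap_basis h c, map_sum, map_sum, Finsupp.finsetSum_apply, Matrix.mul_apply]
      refine Finset.sum_congr rfl fun l _ => ?_
      rw [L.smul, map_smul, Finsupp.smul_apply, smul_eq_mul, mul_comm]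
      rfl
  obtain ⟨M₁, a₁, e₁⟩ := key x fx
  obtain ⟨M₂, a₂, e₂⟩ := key y fy
  obtain ⟨M₃, a₃, e₃⟩ := key z fz
  rw [ex] at e₁
  rw [ey] at e₂
  rw [ez] at e₃
  obtain ⟨hσ, μ, hμ⟩ := hes_four hB hη3 _ (B.hes (H.2.2.2.1 _ hf) (L.σ : K →+* K) L.g
    (fun v hv => by simpa using hv) L.smul L.conj) a₁ a₂ a₃ e₁ e₂ e₃
  have h1 : ∀ n, L.g (c n) = μ • c n := fun n => c.repr.injective (Finsupp.ext fun m => by
    have h2 := congrFun (congrFun hμ m) n
    rw [Matrix.of_apply] at h2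
    rw [h2]
    simp [Matrix.one_apply, Finsupp.single_apply, eq_comm])
  refine L.eq_one (c := μ) fun v => ?_
  rw [← c.sum_repr v, map_sum, Finset.smul_sum]
  exact Finset.sum_congr rfl fun n _ => by rw [L.smul, h1, show L.σ _ = _ from hσ _, smul_comm]

theorem rowU3d {K V : Type} [Field K] [Finite K] [AddCommGroup V] [Module K V] [Finite V] (h : HF K V)
    (F : FR h.EB) (S Y : Subgroup (RingAut h.EB)) (hU : Cl.IsU h) (hV : finrank K V = 3) (hK : Nat.card K ≠ 4)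
    (H : Cl.Ctx F S) (hE : Cl.ExtD F S Y 3) (hc : Nat.card Y = 9) : Good F.S S :=
  good_of_four H le_rfl (four_U3d hU hV hK (H.le.trans F.Aut_le_SAut) hE hc)

end Cfsg.Agent.SB.Tor
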