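import Cfsg.Agent.SB.Tor.Refl
import Cfsg.Agent.H324.FC.Fld

/-!
# S5765, classical groups: the row `O₂^ε(q) ≀ S₄` (helper90)
-/

set_option autoImplicit false
set_option linter.unusedSectionVars false

namespace Cfsg.Agent.SB.Tor

open Cfsg Cfsg.Agent.DS.Cl Cfsg.Agent.DS.Cl.Fwd Module QuadraticMap

variable {K V : Type} [Field K] [Finite K] [AddCommGroup V] [Module K V] [Finite V] {h : HF K V}
  {F : FR h.EB} {Q : QuadraticForm K V} {D : Finset h.EB} {e : Fin 4 → h.EB}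

theorem four_ne : ∀ i j k m : Fin 4, (∀ t, t = i ∨ t = j ∨ t = k ∨ t = m) →
    i ≠ j ∧ i ≠ k ∧ i ≠ m ∧ j ≠ k ∧ j ≠ m ∧ k ≠ m := by decide +kernel

/-- three reflections -/
theorem four_O2 (hO : Cl.IsO h F Q) (hD : Fr D) (he : Function.Injective e) (hm : ∀ a, a ∈ D ↔ ∃ i, e i = a)
    (h2 : ∀ a ∈ D, Cl.rk h a = 2) {x y : Fin 4 → V} (hx : ∀ i, h.ap (e i) (x i) = x i)
    (hy : ∀ i, h.ap (e i) (y i) = y i) (hxy : ∀ i, Ind K (x i) (y i)) (q₁ : Q (x 0) + Q (x 1) + Q (x 2) ≠ 0)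
    (q₂ : Q (y 1) + Q (y 2) + Q (x 3) ≠ 0) (q₃ : Q (y 0) + Q (x 2 + y 2) + Q (y 3) ≠ 0)
    (hσ : ∀ (σ : K ≃+* K) (ν : K), ν * Q (x 0) = σ (Q (x 0)) → ν * Q (x 1) = σ (Q (x 1)) → ∀ c, σ c = c) :
    Four F.S (St F D) := by
  have hmem : ∀ i, e i ∈ D := fun i => (hm _).2 ⟨i, rfl⟩
  have hz : ∀ {i j : Fin 4}, i ≠ j → ∀ {w}, h.ap (e j) w = w → h.ap (e i) w = 0 := fun hij _ hw =>
    Fr.ap_eq_zero h hD (hmem _) (hmem _) (fun e => hij (he e)) hw
  have hxy2 : h.ap (e 2) (x 2 + y 2) = x 2 + y 2 := by rw [map_add, hx, hy]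
  -- a vector with three components
  have key : ∀ (i j k m : Fin 4) (a b c : V), (∀ t, t = i ∨ t = j ∨ t = k ∨ t = m) → h.ap (e i) a = a →
      h.ap (e j) b = b → h.ap (e k) c = c → a ≠ 0 → b ≠ 0 → c ≠ 0 → Q a + Q b + Q c ≠ 0 →
      ∃ t ∈ F.S, ∀ s ∈ St F D, t⁻¹ * s * t ∈ St F D → ∀ (L : SL h s) (π : Fin 4 → Fin 4), Function.Injective π →
        (∀ i, s (e i) = e (π i)) → π m = m ∧ ((∀ i, π i = i) → ∃ l : K, L.g a = l • a ∧ L.g b = l • b ∧ L.g c = l • c) := by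
    intro i j k m a b c hall ha hb hc a0 b0 c0 hq
    obtain ⟨hij, hik, him, hjk, hjm, hkm⟩ := four_ne i j k m hall
    have c₁ : h.ap (e i) (a + b + c) = a := by rw [map_add, map_add, ha, hz hij hb, hz hik hc, add_zero, add_zero]
    have c₂ : h.ap (e j) (a + b + c) = b := by
      rw [map_add, map_add, hb, hz hij.symm ha, hz hjk hc, add_zero, zero_add]
    have c₃ : h.ap (e k) (a + b + c) = c := by
      rw [map_add, map_add, hc, hz hik.symm ha, hz hjk.symm hb, add_zero, zero_add]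
    have c₄ : h.ap (e m) (a + b + c) = 0 := by
      rw [map_add, map_add, hz him.symm ha, hz hjm.symm hb, hz hkm.symm hc, add_zero, add_zero]
    have ho : ∀ {i j : Fin 4}, i ≠ j → ∀ {v w}, h.ap (e i) v = v → h.ap (e j) w = w → h.b v w = 0 :=
      fun hij _ _ hv hw => Fr.b_eq_zero h hD (hmem _) (hmem _) (fun e => hij (he e)) hv hw
    have hQ : Q (a + b + c) ≠ 0 := by
      rwa [O_add hO, O_add hO, h.add_left, ho hij ha hb, ho hik ha hc, ho hjk hb hc, add_zero, add_zero, add_zero]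
    obtain ⟨r, hr, t, ht, htS⟩ := exists_refl hO hD (hmem 0) (h2 _ (hmem 0)) hQ
    refine ⟨t, ht, fun s hs hst L π hπ hπe => ?_⟩
    obtain ⟨l, hl⟩ := fix_line hD (big_of hD fun a ha => (h2 a ha).ge) (v := a + b + c)
      ⟨e i, hmem i, e j, hmem j, e k, hmem k, fun e => hij (he e), fun e => hik (he e), fun e => hjk (he e),
        by rwa [c₁], by rwa [c₂], by rwa [c₃]⟩ (inv_ne_zero hQ) hr hs (htS s hst) L
    have hl0 : l ≠ 0 := by
      rintro rfl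
      rw [zero_smul, map_eq_zero_iff _ L.g.injective] at hl
      exact hQ (by rw [hl, map_zero])
    have h3 : ∀ t, l • h.ap (e (π t)) (a + b + c) = L.g (h.ap (e t) (a + b + c)) := fun t => by
      rw [← map_smul, ← hl, ← hπe, L.conj]
    refine ⟨?_, fun hid => ⟨l, ?_, ?_, ?_⟩⟩
    · have h4 := h3 m
      rw [c₄, map_zero, smul_eq_zero_iff_right hl0] at h4
      rcases hall (π m) with h5 | h5 | h5 | h5
      · rw [h5, c₁] at h4
        exact absurd h4 a0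
      · rw [h5, c₂] at h4
        exact absurd h4 b0
      · rw [h5, c₃] at h4
        exact absurd h4 c0
      · exact h5
    · have h4 := h3 i
      rw [hid, c₁] at h4
      exact h4.symm
    · have h4 := h3 j
      rw [hid, c₂] at h4
      exact h4.symm
    · have h4 := h3 k
      rw [hid, c₃] at h4
      exact h4.symm
  obtain ⟨t₁, a₁, b₁⟩ := key 0 1 2 3 _ _ _ (by decide) (hx 0) (hx 1) (hx 2) (hxy 0).left_ne (hxy 1).left_ne
    (hxy 2).left_ne q₁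
  obtain ⟨t₂, a₂, b₂⟩ := key 1 2 3 0 _ _ _ (by decide) (hy 1) (hy 2) (hx 3) (hxy 1).right_ne (hxy 2).right_ne
    (hxy 3).left_ne q₂
  obtain ⟨t₃, a₃, b₃⟩ := key 0 2 3 1 _ _ _ (by decide) (hy 0) hxy2 (hy 3) (hxy 0).right_ne (hxy 2).add_ne
    (hxy 3).right_ne q₃
  refine ⟨t₁, a₁, t₂, a₂, t₃, a₃, fun s hs c₁ c₂ c₃ => ?_⟩
  have : Nontrivial V := ⟨_, _, (hxy 0).left_ne⟩
  obtain ⟨L⟩ := exists_SL h hs.1.1
  obtain ⟨π, hπ, hπe⟩ := exists_perm he hm hs
  obtain ⟨p₁, d₁⟩ := b₁ s hs c₁ L π hπ hπe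
  obtain ⟨p₂, d₂⟩ := b₂ s hs c₂ L π hπ hπe
  obtain ⟨p₃, d₃⟩ := b₃ s hs c₃ L π hπ hπe
  have hid : ∀ i, π i = i := by
    have h3 : π 2 = 2 := by
      rcases (by decide : ∀ t : Fin 4, t = 0 ∨ t = 1 ∨ t = 2 ∨ t = 3) (π 2) with h3 | h3 | h3 | h3
      · exact absurd (hπ (h3.trans p₂.symm)) (by decide)
      · exact absurd (hπ (h3.trans p₃.symm)) (by decide)
      · exact h3
      · exact absurd (hπ (h3.trans p₁.symm)) (by decide)
    intro i
    fin_cases i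
    exacts [p₂, p₃, h3, p₁]
  obtain ⟨l, x0, x1, x2⟩ := d₁ hid
  obtain ⟨l', y1, y2, x3⟩ := d₂ hid
  obtain ⟨l'', y0, z2, y3⟩ := d₃ hid
  rw [map_add, x2, y2] at z2
  obtain ⟨e₁, e₂⟩ := hxy 2 (l - l'') (l' - l'') (by rw [sub_smul, sub_smul, sub_add_sub_comm, z2, smul_add, sub_self])
  rw [sub_eq_zero] at e₁ e₂
  subst e₁ e₂
  have h3 : ∀ w, L.g w = l' • w → l' * l' / L.μ * Q w = L.σ (Q w) := fun w hw => by
    have h4 := L.quad hO hs.1 w
    rw [hw, QuadraticMap.map_smul, smul_eq_mul] at h4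
    rw [div_mul_eq_mul_div, h4, mul_div_cancel_left₀ _ L.μ_ne]
  have h4 := hσ L.σ _ (h3 _ x0) (h3 _ x1)
  have h5 : ∀ i, L.g (x i) = l' • x i := fun i => by
    fin_cases i
    exacts [x0, x1, x2, x3]
  have h6 : ∀ i, L.g (y i) = l' • y i := fun i => by
    fin_cases i
    exacts [y0, y1, y2, y3]
  refine L.eq_one (c := l') fun w => ?_
  have h7 : h.ap (∑ a ∈ D, a) w = ∑ a ∈ D, h.ap a w := LinearMap.sum_apply D (fun a => h.ap a) w
  rw [hD.sum, h.ap_one] at h7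
  rw [h7, map_sum, Finset.smul_sum]
  refine Finset.sum_congr rfl fun a ha => ?_
  obtain ⟨i, rfl⟩ := (hm a).1 ha
  obtain ⟨c, d, hcd⟩ := span_two (h2 _ ha) (hx i) (hy i) (hxy i) (z := h.ap (e i) w) (by rw [← h.ap_mul, hD.idem _ ha])
  rw [← hcd, map_add, L.smul, L.smul, h4, h4, h5, h6]
  module

theorem exists_ind_ne (hO : Cl.IsO h F Q) (hD : Fr D) {a : h.EB} (ha : a ∈ D) (h2 : Cl.rk h a = 2) {ω : K}
    (h0 : ω ≠ 0) (h1 : ω ≠ 1) {x : V} (hx : h.ap a x = x) (hQ : Q x ≠ 0) (C : K) :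
    ∃ y, h.ap a y = y ∧ Ind K x y ∧ Q y ≠ C := by
  by_contra hcon
  push Not at hcon
  obtain ⟨y, hy, hxy⟩ := exists_ind h2.ge (hD.idem a ha) (x := x) fun h0 => hQ (by rw [h0, map_zero])
  have h3 : ∀ t : K, Q y + t * t * Q x + t * h.b y x = C := fun t => by
    rw [← hcon (y + t • x) (by rw [map_add, map_smul, hx, hy]) (hxy.add_right t), O_add hO, QuadraticMap.map_smul,
      h.smul_right, hO.1, smul_eq_mul]
  apply mul_ne_zero (mul_ne_zero h0 (sub_ne_zero.2 h1)) hQ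
  linear_combination h3 ω - ω * h3 1 + (ω - 1) * h3 0

theorem exists_val_ne (hO : Cl.IsO h F Q) (hD : Fr D) {a : h.EB} (ha : a ∈ D) (h2 : Cl.rk h a = 2) {ω : K}
    (h0 : ω ≠ 0) (h1 : ω ≠ 1) (C : K) : ∃ x, h.ap a x = x ∧ Q x ≠ 0 ∧ Q x ≠ C := by
  by_cases hC : C = 1
  · obtain ⟨x, hx, hQ⟩ := exists_val hO hD ha h2 ω
    exact ⟨x, hx, hQ ▸ h0, by rw [hQ, hC]; exact h1⟩
  · obtain ⟨x, hx, hQ⟩ := exists_val hO hD ha h2 1
    exact ⟨x, hx, hQ ▸ one_ne_zero, hQ ▸ Ne.symm hC⟩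

theorem rowO2 : Cl.RowO2 := by
  intro K V _ _ _ _ _ h F Q S D hO hV H hD hS hI hM
  obtain ⟨e, he, hm⟩ := exists_four (card_four h hD.sum two_pos hV hM)
  have hmem : ∀ i, e i ∈ D := fun i => (hm _).2 ⟨i, rfl⟩
  have hne : ∀ {x : V}, Q x ≠ 0 → x ≠ 0 := fun hx h0 => hx (by rw [h0, map_zero])
  refine good_of_four H (le_St H.le hS) ?_
  obtain ⟨ω, h0, hgen, -⟩ := H324.FC.exists_gen K
  by_cases h1 : ω = 1
  · have hK : ∀ c : K, c = 0 ∨ c = 1 := fun c => by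
      by_cases hc : c = 0
      · exact Or.inl hc
      · obtain ⟨k, rfl⟩ := hgen c hc
        exact Or.inr (by rw [h1, one_pow])
    have h2 : (2 : K) = 0 := (hK 2).resolve_right fun e => one_ne_zero (α := K) (by linear_combination e)
    obtain ⟨n, hn, hQn⟩ := exists_nonsing hO hD (hmem 0)
    obtain ⟨a, ha, han⟩ := Fr.exists_ne h hD (hmem 0) hn (hne hQn)
    have hna : Ind K n a := ind_of_ne (hne hQn) fun c hc => han (by
      rw [hc, h.smul_left, O_self hO, h2, zero_mul, mul_zero])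
    replace hQn : Q n = 1 := (hK _).resolve_left hQn
    replace han : h.b a n = 1 := (hK _).resolve_left han
    have hQa : Q (a + n) = Q a := by
      rw [O_add hO, hQn, han]
      linear_combination h2
    choose u hu hue using fun i => hI _ (hmem 0) _ (hmem i)
    have hQ : ∀ i w, Q (h.ap (u i) w) = Q w := fun i => (mem_Iso_O hO _).1 (hu i)
    have hf : ∀ i w, h.ap (e 0) w = w → h.ap (e i) (h.ap (u i) w) = h.ap (u i) w := fun i w hw => by
      rw [← hue i, ← h.ap_mul, cj_mul_eq, h.ap_mul, hw]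
    have han' : h.ap (e 0) (a + n) = a + n := by rw [map_add, ha, hn]
    have i₁ : Ind K a (a + n) := by simpa only [one_smul, add_comm] using hna.symm.add_right 1
    refine four_O2 hO hD he hm hM.2 (x := fun i => h.ap (u i) (![n, a, a, a] i))
      (y := fun i => h.ap (u i) (![a, n, a + n, a + n] i)) (fun i => hf i _ ?_) (fun i => hf i _ ?_)
      (fun i => Ind.map ?_ _) ?_ ?_ ?_ fun σ _ _ _ c => ?_
    · fin_cases i
      exacts [hn, ha, ha, ha]
    · fin_cases i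
      exacts [ha, hn, han', han']
    · fin_cases i
      exacts [hna, hna.symm, i₁, i₁]
    · simp only [hQ]
      change Q n + Q a + Q a ≠ 0
      rw [hQn, add_assoc, ← two_mul, h2, zero_mul, add_zero]
      exact one_ne_zero
    · simp only [hQ]
      change Q n + Q (a + n) + Q a ≠ 0
      rw [hQn, hQa, add_assoc, ← two_mul, h2, zero_mul, add_zero]
      exact one_ne_zero
    · simp only [← map_add, hQ]
      change Q a + Q (a + (a + n)) + Q (a + n) ≠ 0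
      rw [← add_assoc, ← two_smul K a, h2, zero_smul, zero_add, hQn, hQa, add_right_comm, ← two_mul, h2, zero_mul,
        zero_add]
      exact one_ne_zero
    · rcases hK c with rfl | rfl
      exacts [map_zero σ, map_one σ]
  have r : ∀ i, Cl.rk h (e i) = 2 := fun i => hM.2 _ (hmem i)
  obtain ⟨x0, a0, q0⟩ := exists_val hO hD (hmem 0) (r 0) 1
  obtain ⟨x1, a1, q1⟩ := exists_val hO hD (hmem 1) (r 1) ω
  obtain ⟨x2, a2, q2, q2'⟩ := exists_val_ne hO hD (hmem 2) (r 2) h0 h1 (-(Q x0 + Q x1))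
  obtain ⟨y0, b0, i0⟩ := exists_ind (r 0).ge (hD.idem _ (hmem 0)) (hne (q0 ▸ one_ne_zero))
  obtain ⟨y1, b1, i1⟩ := exists_ind (r 1).ge (hD.idem _ (hmem 1)) (hne (q1 ▸ h0))
  obtain ⟨y2, b2, i2⟩ := exists_ind (r 2).ge (hD.idem _ (hmem 2)) (hne q2)
  obtain ⟨x3, a3, q3, q3'⟩ := exists_val_ne hO hD (hmem 3) (r 3) h0 h1 (-(Q y1 + Q y2))
  obtain ⟨y3, b3, i3, q4⟩ := exists_ind_ne hO hD (hmem 3) (r 3) h0 h1 a3 q3 (-(Q y0 + Q (x2 + y2)))
  refine four_O2 hO hD he hm hM.2 (x := ![x0, x1, x2, x3]) (y := ![y0, y1, y2, y3]) (fun i => ?_) (fun i => ?_)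
    (fun i => ?_) (fun e => q2' (eq_neg_of_add_eq_zero_right e)) (fun e => q3' (eq_neg_of_add_eq_zero_right e))
    (fun e => q4 (eq_neg_of_add_eq_zero_right e)) fun σ ν s0 s1 c => ?_
  · fin_cases i
    exacts [a0, a1, a2, a3]
  · fin_cases i
    exacts [b0, b1, b2, b3]
  · fin_cases i
    exacts [i0, i1, i2, i3]
  · replace s0 : ν * Q x0 = σ (Q x0) := s0
    replace s1 : ν * Q x1 = σ (Q x1) := s1
    rw [q0, map_one, mul_one] at s0
    rw [q1, s0, one_mul] at s1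
    by_cases hc : c = 0
    · rw [hc, map_zero]
    · obtain ⟨k, rfl⟩ := hgen c hc
      rw [map_pow, ← s1]

end Cfsg.Agent.SB.Tor
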