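import Cfsg.Agent.SB.Tor.U1

/-!
# S5765, classical groups: the row `GU₁(q) ≀ S₃` (helper90)
-/

set_option autoImplicit false
set_option linter.unusedSectionVars false

namespace Cfsg.Agent.SB.Tor

open Cfsg Cfsg.Agent.DS.Cl Cfsg.Agent.DS.Cl.Fwd Module

theorem exists_three {A : Type} {D : Finset A} (h : D.card = 3) :
    ∃ e : Fin 3 → A, Function.Injective e ∧ ∀ a, a ∈ D ↔ ∃ i, e i = a := by
  let f := (D.equivFinOfCardEq h).symm
  refine ⟨fun i => f i, fun i j hij => f.injective (Subtype.ext hij), fun a => ⟨fun ha => ?_, ?_⟩⟩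
  · exact ⟨f.symm ⟨a, ha⟩, by simp⟩
  · rintro ⟨i, rfl⟩
    exact (f i).2

variable {K V : Type} [Field K] [Finite K] [AddCommGroup V] [Module K V] [Finite V] {h : HF K V}

/-- vectors spanning the blocks -/
structure UG (D : Finset h.EB) (e : Fin 3 → h.EB) (v : Fin 3 → V) : Prop where
  fr : Fr D
  inj : Function.Injective e
  mem : ∀ a, a ∈ D ↔ ∃ i, e i = a
  ne : ∀ i, h.b (v i) (v i) ≠ 0
  fix : ∀ i, h.ap (e i) (v i) = v i
  span : ∀ i x, h.ap (e i) x = x → ∃ c : K, x = c • v i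

namespace UG

variable {D : Finset h.EB} {e : Fin 3 → h.EB} {v : Fin 3 → V} (H : UG D e v) {F : FR h.EB}
include H

theorem emem (i : Fin 3) : e i ∈ D := (H.mem _).2 ⟨i, rfl⟩

theorem orth {i j : Fin 3} (hij : i ≠ j) : h.b (v i) (v j) = 0 :=
  Fr.b_eq_zero h H.fr (H.emem i) (H.emem j) (fun e => hij (H.inj e)) (H.fix i) (H.fix j)

theorem vne (i : Fin 3) : v i ≠ 0 := fun h0 => H.ne i (by rw [h0, h.zero_left])

theorem ind (P : V → Prop) (h0 : P 0) (ha : ∀ x y, P x → P y → P (x + y)) (hs : ∀ (c : K) i, P (c • v i)) (x : V) :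
    P x := by
  have h1 : h.ap (∑ a ∈ D, a) x = ∑ a ∈ D, h.ap a x := LinearMap.sum_apply D (fun a => h.ap a) x
  rw [H.fr.sum, h.ap_one] at h1
  rw [h1]
  refine Finset.sum_induction _ P ha h0 fun a haD => ?_
  obtain ⟨i, rfl⟩ := (H.mem a).1 haD
  obtain ⟨c, hc⟩ := H.span i (h.ap (e i) x) (by rw [← h.ap_mul, H.fr.idem _ haD])
  rw [hc]
  exact hs c i

theorem exists_diag (hε : h.ε = 1) (hF : F.L = Lmax h.EB) (i : Fin 3) {c : K} (hc : c * h.τ c = 1) :
    ∃ u ∈ F.Iso, cj h.EB u ∈ Nt F D ∧ ∀ j, h.ap u (v j) = (if j = i then c else 1) • v j := by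
  have hi := H.ne i
  have h1 : ∀ x y, h.b (h.ap (qr h ((1 - c) / h.b (v i) (v i)) (v i)) x)
      (h.ap (qr h ((1 - c) / h.b (v i) (v i)) (v i)) y) = h.b x y := by
    refine qr_form h hε ?_
    rw [map_div₀, map_sub, map_one, tau_self hε]
    field_simp
    linear_combination -hc
  have h2 : isoU h _ h1 ∈ F.Iso := mem_Iso_max hF (isoU_ms _ _ _)
  refine ⟨_, h2, cj_mem_Nt h2 (qr_comm h H.fr (H.emem i) (H.fix i) _), fun j => ?_⟩
  rw [isoU_val, ap_qr]
  split_ifs with hj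
  · rw [hj, div_mul_cancel₀ _ hi, sub_smul, one_smul, sub_sub_cancel]
  · rw [H.orth hj, mul_zero, zero_smul, sub_zero, one_smul]

theorem rel {k : RingAut h.EB} (L : SL h k) {π : Fin 3 → Fin 3} (hπ : ∀ i, k (e i) = e (π i)) {u : h.EBˣ}
    {c : Fin 3 → K} (hu : ∀ j, h.ap u (v j) = c j • v j) (hk : k * cj h.EB u * k⁻¹ = cj h.EB u) :
    ∃ z : K, ∀ i, L.σ (c i) = z * c (π i) := by
  have : Nontrivial V := ⟨_, _, H.vne 0⟩
  rw [conj_cj] at hk
  obtain ⟨z, hz, hk⟩ := cj_eq_iff.1 hk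
  obtain ⟨z₀, hz₀⟩ := exists_sc h hz
  refine ⟨z₀, fun i => ?_⟩
  have h1 := L.conj u (v i)
  have h2 := L.map_fix (H.fix i)
  rw [hπ] at h2
  obtain ⟨m, hm⟩ := H.span _ _ h2
  have h3 : L.g (v i) ≠ 0 := by simpa using H.vne i
  rw [← um_val, hk, Units.val_mul, h.ap_mul, hz₀, map_smul, hu, L.smul] at h1
  apply smul_left_injective K h3
  change L.σ (c i) • L.g (v i) = (z₀ * c (π i)) • L.g (v i)
  rw [← h1, hm, map_smul, hu, smul_smul, smul_smul, smul_smul]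
  congr 1
  ring

/-- two elements of the torus whose centraliser is the torus -/
theorem cent (hε : h.ε = 1) (hF : F.L = Lmax h.EB) {ξ : K} (h1 : ξ * h.τ ξ = 1) (hξ1 : ξ ≠ 1)
    (h3 : ∀ σ : K →+* K, σ ξ = ξ → σ = RingHom.id K) :
    ∃ v₁ ∈ Nt F D, ∃ v₂ ∈ Nt F D, ∀ k ∈ St F D, k * v₁ * k⁻¹ = v₁ → k * v₂ * k⁻¹ = v₂ → k ∈ Nt F D := by
  have : Nontrivial V := ⟨_, _, H.vne 0⟩
  obtain ⟨u₀, -, a₀, b₀⟩ := H.exists_diag hε hF 0 h1
  obtain ⟨u₁, -, a₁, b₁⟩ := H.exists_diag hε hF 1 h1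
  refine ⟨_, a₀, _, a₁, fun k hk c₁ c₂ => ?_⟩
  obtain ⟨L⟩ := exists_SL h hk.1.1
  choose π hπe using fun i => (H.mem _).1 (St.mem hk (H.emem i))
  have hπ : Function.Injective π := fun i j hij => H.inj (k.injective (by rw [← hπe, ← hπe, hij]))
  have key : ∀ (i : Fin 3) (u : h.EBˣ), (∀ j, h.ap u (v j) = (if j = i then ξ else 1) • v j) →
      k * cj h.EB u * k⁻¹ = cj h.EB u → π i = i ∧ L.σ ξ = ξ := by
    intro i u b c
    obtain ⟨z, hz⟩ := H.rel L (fun i => (hπe i).symm) b c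
    have hz1 : z = 1 := by
      obtain ⟨j, j', hj, hj', hjj⟩ := (by decide : ∀ i : Fin 3, ∃ j j' : Fin 3, j ≠ i ∧ j' ≠ i ∧ j ≠ j') i
      by_cases h4 : π j = i
      · have h5 : π j' ≠ i := fun e => hjj (hπ (h4.trans e.symm))
        simpa [h5, hj'] using (hz j').symm
      · simpa [h4, hj] using (hz j).symm
    have h5 := hz i
    rw [if_pos rfl, hz1, one_mul] at h5
    by_cases h4 : π i = i
    · rw [if_pos h4] at h5
      exact ⟨h4, h5⟩
    · rw [if_neg h4, map_eq_one_iff _ L.σ.injective] at h5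
      exact absurd h5 hξ1
  obtain ⟨p0, hσ⟩ := key 0 u₀ b₀ c₁
  obtain ⟨p1, -⟩ := key 1 u₁ b₁ c₂
  refine ⟨hk.1, L.mem_Lin fun c => RingHom.congr_fun (h3 (L.σ : K →+* K) hσ) c, fun a ha => ?_⟩
  obtain ⟨i, rfl⟩ := (H.mem a).1 ha
  rw [← hπe, (by decide : ∀ π : Fin 3 → Fin 3, Function.Injective π → π 0 = 0 → π 1 = 1 → ∀ i, π i = i) π hπ p0 p1]

/-- the torus meets a conjugate of the stabiliser trivially -/
theorem reg (hε : h.ε = 1) {a κ : K} (ha : a ≠ 1) (hκ : κ ≠ 0) (hκa : κ * a ≠ 1)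
    (hn : ∀ i, h.b (v i) (v i) = if i = 0 then a else 1) {r : h.EBˣ} (hr : (r : h.EB) * star (r : h.EB) = 1)
    (hrv : (r : h.EB) = qr h κ (∑ i, v i)) :
    ∀ t ∈ Nt F D, (cj h.EB r)⁻¹ * t * cj h.EB r ∈ St F D → t = 1 := by
  have : Nontrivial V := ⟨_, _, H.vne 0⟩
  intro t ht hts
  obtain ⟨L⟩ := exists_SL h ht.1.1
  have hσ := L.sigma_of_Lin ht.2.1
  have h1 : ∀ i, ∃ c : K, L.g (v i) = c • v i := fun i => H.span i _ (by
    have h2 := L.map_fix (H.fix i)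
    rwa [ht.2.2 _ (H.emem i)] at h2)
  choose c hc using h1
  have hN : ∀ i, c i * h.τ (c i) = L.μ := fun i => by
    have h2 := L.form (v i) (v i)
    rw [hc, h.smul_left, h.smul_right, hσ, ← mul_assoc] at h2
    exact mul_right_cancel₀ (H.ne i) h2
  obtain ⟨j, hj⟩ := (H.mem _).1 (St.mem hts (H.emem 0))
  have h2 : t (cj h.EB r (e 0)) = cj h.EB r (e j) := by rw [hj, ra_mul, ra_mul, ra_apply_inv]
  have h3 : h.ap (cj h.EB r (e 0)) (h.ap r (v 0)) = h.ap r (v 0) := by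
    rw [← h.ap_mul, cj_mul_eq, h.ap_mul, H.fix]
  have h4 := L.map_fix h3
  rw [h2, cj_apply, h.ap_mul, h.ap_mul] at h4
  have h5 := congrArg (h.ap (r⁻¹ : h.EBˣ)) h4
  rw [ap_inv_ap] at h5
  obtain ⟨l, hl⟩ := H.span _ _ h5
  have h6 : L.g (h.ap r (v 0)) = l • h.ap r (v j) := by rw [← map_smul, ← hl, ap_ap_inv]
  have hb : ∀ i k, h.b (v i) (v k) = if i = k then h.b (v i) (v i) else 0 := fun i k => by
    split_ifs with hik
    · rw [hik]
    · exact H.orth hik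
  have hs : ∀ (d : Fin 3 → K) k, h.b (∑ i, d i • v i) (v k) = d k * h.b (v k) (v k) := fun d k => by
    have h7 : h.lin (v k) (∑ i, d i • v i) = ∑ i, d i • h.lin (v k) (v i) := by simp only [map_sum, map_smul]
    refine h7.trans ((Finset.sum_eq_single k (fun i _ hi => ?_) (by simp)).trans rfl)
    change d i * h.b (v i) (v k) = 0
    rw [H.orth hi, mul_zero]
  have hs1 : ∀ k, h.b (∑ i, v i) (v k) = h.b (v k) (v k) := fun k => by simpa using hs 1 k
  have hs2 : ∀ k, h.b (v k) (∑ i, v i) = h.b (v k) (v k) := fun k => by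
    rw [h.swap, hs1, hε, one_mul, tau_self hε]
  have h7 : ∀ k, c 0 * h.b (v 0) (v k) - κ * a * (c k * h.b (v k) (v k)) =
      l * (h.b (v j) (v k) - κ * h.b (v j) (v j) * h.b (v k) (v k)) := fun k => by
    have h8 := congrArg (fun x => h.b x (v k)) h6
    simp only [hrv, ap_qr, map_sub, L.smul, hσ, map_sum, hc, h.sub_left, h.smul_left, hs, hs1, hs2] at h8
    rw [← h8, hn 0, if_pos rfl]
  have h8 : L.μ * a = l * h.τ l * h.b (v j) (v j) := by
    have h9 := L.form (h.ap r (v 0)) (h.ap r (v 0))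
    rw [h6, h.smul_left, h.smul_right, hσ, (h.unit_iff r).1 hr, (h.unit_iff r).1 hr, hn 0, if_pos rfl] at h9
    rw [← h9, mul_assoc]
  have ha0 : a ≠ 0 := by simpa [hn] using H.ne 0
  have hτa : h.τ a = a := by simpa [hn] using tau_self hε (v 0)
  have hj0 : j = 0 := by
    by_contra hj0
    obtain ⟨k, hk0, hkj⟩ := (by decide : ∀ j : Fin 3, ∃ k : Fin 3, k ≠ 0 ∧ k ≠ j) j
    have h9 := h7 k
    rw [H.orth hk0.symm, H.orth hkj.symm, hn k, hn j, if_neg hk0, if_neg hj0] at h9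
    rw [hn j, if_neg hj0, mul_one] at h8
    have h10 : l = a * c k := mul_left_cancel₀ hκ (by linear_combination h9)
    rw [h10, map_mul, hτa] at h8
    apply ha
    apply mul_left_cancel₀ (mul_ne_zero L.μ_ne ha0)
    linear_combination (-1 : K) * h8 - a * a * hN k
  subst hj0
  have h9 : ∀ k, c k = l := fun k => by
    have h10 := h7 k
    by_cases hk : k = 0
    · rw [hk, hn 0, if_pos rfl] at h10
      rw [hk]
      apply mul_left_cancel₀ (mul_ne_zero ha0 (sub_ne_zero.2 hκa))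
      linear_combination -h10
    · rw [H.orth (Ne.symm hk), hn k, hn 0, if_neg hk, if_pos rfl] at h10
      apply mul_left_cancel₀ (mul_ne_zero ha0 hκ)
      linear_combination -h10
  refine L.eq_one (c := l) (H.ind _ (by simp) (fun x y hx hy => by rw [map_add, hx, hy, smul_add]) fun d i => ?_)
  rw [L.smul, hσ, hc, h9, smul_comm]

end UG

theorem rowU3a {K V : Type} [Field K] [Finite K] [AddCommGroup V] [Module K V] [Finite V] (h : HF K V)
    (F : FR h.EB) (S : Subgroup (RingAut h.EB)) (D : Finset h.EB) (hU : Cl.IsU h) (hK : Nat.card K ≠ 4)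
    (H : Cl.Ctx F S) (hD : Fr D) (hS : Inv S D) (hD3 : D.card = 3) (hM : ∀ e ∈ D, Cl.rk h e = 1) : Good F.S S := by
  have hε := hU.1
  have hF := L_eq_of_U hU F
  obtain ⟨e, he, hmem⟩ := exists_three hD3
  have hτ : h.τ ≠ RingHom.id K := fun e => by
    obtain ⟨c, hc⟩ := hU.2
    exact hc (by rw [e]; rfl)
  let τ : K ≃+* K := ⟨⟨h.τ, h.τ, h.τ_τ, h.τ_τ⟩, map_mul h.τ, map_add h.τ⟩
  obtain ⟨ξ, h1, h2, -, h3⟩ := H324.FC.exists_xi τ h.τ_τ hU.2
  replace h1 : ξ * h.τ ξ = 1 := h1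
  have h4 : h.τ ξ ≠ ξ := fun e => hτ (h3 _ e)
  have hξ0 : ξ ≠ 0 := left_ne_zero_of_mul (h1.trans_ne one_ne_zero)
  have hξ1 : ξ ≠ 1 := fun e => h4 (by rw [e, map_one])
  obtain ⟨a, ha, ha0, ha1, ha2⟩ : ∃ a : K, h.τ a = a ∧ a ≠ 0 ∧ a ≠ 1 ∧ a + 2 ≠ 0 := by
    by_cases h5 : (2 : K) = 0
    · refine ⟨ξ + h.τ ξ, by rw [map_add, h.τ_τ, add_comm], fun e => h4 (by linear_combination e - ξ * h5),
        fun e => h2 hK (by linear_combination (ξ + 1) * ξ * e - (ξ + 1) * h1 - h5),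
        fun e => h4 (by linear_combination e - (ξ + 1) * h5)⟩
    · exact ⟨-1, by simp, by simp, fun e => h5 (by linear_combination -e), by norm_num⟩
  have ha2' : h.τ (a + 2) = a + 2 := by rw [map_add, ha, map_ofNat]
  obtain ⟨c, hc, hc1⟩ : ∃ c : K, c * h.τ c = a + 2 ∧ c ≠ 1 := by
    obtain ⟨c, hc⟩ := ClassicalGeometry.InvolutiveNorm.exists_mul_sigma_eq hτ h.τ_τ ha2'
    by_cases hc1 : c = 1
    · exact ⟨ξ, by rw [← hc, hc1, h1, map_one, mul_one], hξ1⟩
    · exact ⟨c, hc, hc1⟩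
  have hc0 : c ≠ 0 := left_ne_zero_of_mul (hc.trans_ne ha2)
  have h8 : ∀ i : Fin 3, ∃ v, h.b v v = (if i = 0 then a else 1) ∧ h.ap (e i) v = v ∧
      ∀ x, h.ap (e i) x = x → ∃ c : K, x = c • v := fun i =>
    exists_vec hU hD ((hmem _).2 ⟨i, rfl⟩) (hM _ ((hmem _).2 ⟨i, rfl⟩))
      (by split_ifs; exacts [ha, map_one _]) (by split_ifs; exacts [ha0, one_ne_zero])
  choose v hn hfix hspan using h8
  have U : UG D e v := ⟨hD, he, hmem, fun i => by rw [hn]; split_ifs; exacts [ha0, one_ne_zero], hfix, hspan⟩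
  have hs2 : ∀ k, h.b (v k) (∑ i, v i) = h.b (v k) (v k) := fun k => by
    rw [Fin.sum_univ_three, h.add_right, h.add_right]
    fin_cases k <;> simp [U.orth]
  have hvv : h.b (∑ i, v i) (∑ i, v i) = a + 2 := by
    conv_lhs => enter [2]; rw [Fin.sum_univ_three]
    rw [h.add_left, h.add_left, hs2, hs2, hs2, hn, hn, hn]
    simp only [Fin.isValue, if_true, Fin.reduceEq, if_false]
    ring
  have hww : h.b (c • v 1) (c • v 1) = a + 2 := by
    rw [h.smul_left, h.smul_right, hn, ← hc]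
    simp
  obtain ⟨g, hg, hgw⟩ := exists_house hε (hww.trans hvv.symm) (by
    rw [h.sub_right, hww, h.smul_left, hs2, hn, ← hc]
    simp only [Fin.isValue, Fin.reduceEq, if_false]
    rw [← mul_sub]
    exact mul_ne_zero hc0 (sub_ne_zero.2 fun e => hc1 ((map_eq_one_iff _ h.τ.injective).1 e)))
  have h9 := qr_form h hε (κ := (1 - ξ) / (a + 2)) (v := c • v 1) (by
    rw [hww, map_div₀, map_sub, map_one, ha2']
    field_simp
    linear_combination -h1)
  have hk : isoU h _ h9 ∈ F.Iso := mem_Iso_max hF (isoU_ms _ _ _)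
  have hg' : g ∈ F.Iso := mem_Iso_max hF hg
  obtain ⟨x, hx, hxS⟩ := exists_conj (S := St F D) hg' hk
    (cj_mem_St hk (qr_comm h hD (U.emem 1) (by rw [map_smul, hfix]) _))
  obtain ⟨v₁, a₁, v₂, a₂, hcc⟩ := U.cent hε hF h1 hξ1 h3
  refine good_of_four H (le_St H.le hS) (four_of_trick' (fun _ => St.aut) Nt_le Nt_conj hx
    (fun t ht hts => ?_) a₁ a₂ hcc)
  refine U.reg hε ha1 (div_ne_zero (sub_ne_zero.2 hξ1.symm) ha2) (fun e => h4 ?_) hn
    (mul_mem (mul_mem hg' hk) (inv_mem hg')).1 ?_ t ht (hxS t hts)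
  · rw [div_mul_eq_mul_div, div_eq_one_iff_eq ha2] at e
    have h10 : ξ = -2 / a := by
      field_simp
      linear_combination -e
    rw [h10, map_div₀, map_neg, map_ofNat, ha]
  · rw [Units.val_mul, Units.val_mul, isoU_val, qr_conj h hg, hgw]

/-- the form with `Many` -/
theorem rowU3a' {K V : Type} [Field K] [Finite K] [AddCommGroup V] [Module K V] [Finite V] (h : HF K V)
    (F : FR h.EB) (S : Subgroup (RingAut h.EB)) (D : Finset h.EB) (hU : Cl.IsU h) (hV : finrank K V = 3)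
    (hK : Nat.card K ≠ 4) (H : Cl.Ctx F S) (hD : Fr D) (hS : Inv S D) (hM : Cl.Many (Cl.rk h) D 1) : Good F.S S := by
  rcases hM.1 with h3 | h4
  · exact rowU3a h F S D hU hK H hD hS h3 hM.2
  exfalso
  obtain ⟨e, he, hmem⟩ := exists_four h4
  choose v hn hfix _ using fun i => exists_vec hU hD ((hmem _).2 ⟨i, rfl⟩) (hM.2 _ ((hmem _).2 ⟨i, rfl⟩))
    (map_one h.τ) one_ne_zero
  have hli : LinearIndependent K v := by
    rw [Fintype.linearIndependent_iff]
    intro g hg k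
    have h7 : h.lin (v k) (∑ i, g i • v i) = ∑ i, g i • h.lin (v k) (v i) := by simp only [map_sum, map_smul]
    rw [hg, map_zero, Finset.sum_eq_single k (fun i _ hi => ?_) (by simp)] at h7
    · change 0 = g k * h.b (v k) (v k) at h7
      rw [hn, mul_one] at h7
      exact h7.symm
    · change g i * h.b (v i) (v k) = 0
      rw [Fr.b_eq_zero h hD ((hmem _).2 ⟨i, rfl⟩) ((hmem _).2 ⟨k, rfl⟩) (fun e => hi (he e)) (hfix i) (hfix k), mul_zero]
  have : Module.Finite K V := Module.Finite.of_finite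
  have h5 := hli.fintype_card_le_finrank
  rw [hV] at h5
  simp at h5

end Cfsg.Agent.SB.Tor
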