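import Mathlib

/-!
# S5765, the Hessian group: matrices (helper90)

`Hes M` : the shape of the matrix of a semilinear map normalising `3^{1+2}`.
-/

set_option autoImplicit false

namespace Cfsg.Agent.SB.Tor

open Matrix

variable {K : Type} [Field K]

/-- all entries have the same non-zero cube -/
def HesA (M : Matrix (Fin 3) (Fin 3) K) : Prop := ∃ κ : K, κ ≠ 0 ∧ ∀ m n, M m n ^ 3 = κ

/-- monomial, the non-zero entries have the same cube -/
def HesB (M : Matrix (Fin 3) (Fin 3) K) : Prop :=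
  ∃ (κ : K) (π : Fin 3 → Fin 3), κ ≠ 0 ∧ Function.Injective π ∧ (∀ n, M (π n) n ^ 3 = κ) ∧ ∀ m n, m ≠ π n → M m n = 0

theorem hes_of {M : Matrix (Fin 3) (Fin 3) K} (h0 : ∀ n, ∃ m, M m n ≠ 0) {k i : Fin 3}
    (h1 : ∀ m n, M (m + k) (n + 1) ^ 3 = M m n ^ 3) (h2 : ∀ m n, M (m + i) n ^ 3 = M m n ^ 3)
    (h3 : i = 0 → ∀ m n n', M m n ≠ 0 → M m n' ≠ 0 → n = n') : HesA M ∨ HesB M := by
  by_cases hi : i = 0
  · right
    choose π hπ using h0
    have hinj : Function.Injective π := fun n n' e => h3 hi _ n n' (hπ n) (e ▸ hπ n')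
    have h4 : ∀ m n, M m n ≠ 0 → m = π n := fun m n hm => by
      obtain ⟨n', rfl⟩ := (Finite.surjective_of_injective hinj) m
      rw [h3 hi _ n n' hm (hπ n')]
    have h5 : ∀ n, M (π (n + 1)) (n + 1) ^ 3 = M (π n) n ^ 3 := fun n => by
      rw [← h1 (π n) n, ← h4 (π n + k) (n + 1) fun e => pow_ne_zero 3 (hπ n) (by rw [← h1, e]; ring)]
    refine ⟨M (π 0) 0 ^ 3, π, pow_ne_zero 3 (hπ 0), hinj, fun n => ?_, fun m n hm => ?_⟩
    · fin_cases n
      exacts [rfl, h5 0, (h5 1).trans (h5 0)]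
    · by_contra e
      exact hm (h4 m n e)
  · left
    have h4 : ∀ m n, M m n ^ 3 = M 0 n ^ 3 := fun m n => by
      rcases (by decide : ∀ i m : Fin 3, i ≠ 0 → m = 0 ∨ m = 0 + i ∨ m = 0 + i + i) i m hi with e | e | e <;> rw [e]
      · exact h2 0 n
      · exact (h2 _ n).trans (h2 0 n)
    have h5 : ∀ n, M 0 (n + 1) ^ 3 = M 0 n ^ 3 := fun n => by rw [← h1 0 n, h4 (0 + k)]
    obtain ⟨m, hm⟩ := h0 0
    refine ⟨M 0 0 ^ 3, by rw [← h4 m]; exact pow_ne_zero 3 hm, fun m n => ?_⟩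
    rw [h4]
    fin_cases n
    exacts [rfl, h5 0, (h5 1).trans (h5 0)]

theorem HesA.ne {M : Matrix (Fin 3) (Fin 3) K} (h : HesA M) (m n : Fin 3) : M m n ≠ 0 := by
  obtain ⟨κ, h0, h⟩ := h
  intro e
  exact h0 (by rw [← h m n, e]; ring)

/-- the conditions on the block `[[a, b], [-b', a']]` -/
structure Blk (a b a' b' : K) : Prop where
  det : a * a' + b * b' = 1
  a0 : a ≠ 0
  b0 : b ≠ 0
  a0' : a' ≠ 0
  b0' : b' ≠ 0
  gen : ∀ σ : K →+* K, σ (a ^ 3) = a ^ 3 → ∀ c, σ c = c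
  two : (2 : K) = 0 → b = b' ∧ a ^ 3 ≠ a' ^ 3

theorem Blk.key {a b a' b' : K} (B : Blk a b a' b') (σ : K →+* K) {κ μ ν p q r s : K} (h0 : κ ≠ 0) (hμ : μ ^ 3 = κ)
    (hν : ν ^ 3 = κ) (hd : (q = 0 ∧ r = 0 ∧ p ^ 3 = κ ∧ s ^ 3 = κ) ∨ (p = 0 ∧ s = 0 ∧ q ^ 3 = κ ∧ r ^ 3 = κ))
    (e1 : a * p + b * r = μ * σ a) (e2 : a * q + b * s = μ * σ b) (e3 : -b' * p + a' * r = ν * -σ b')
    (e4 : -b' * q + a' * s = ν * σ a') : (∀ c, σ c = c) ∧ μ = ν := by
  rcases hd with ⟨rfl, rfl, hp, hs⟩ | ⟨rfl, rfl, hq, hr⟩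
  · have h1 := B.gen σ (mul_left_cancel₀ h0 (by
      have h2 : a * p = μ * σ a := by linear_combination e1
      rw [map_pow, ← hμ, ← mul_pow, ← h2, mul_pow, hp, hμ, mul_comm]))
    rw [h1] at e2 e4
    exact ⟨h1, (mul_left_cancel₀ B.b0 (by linear_combination -e2 : b * μ = b * s)).trans
      (mul_left_cancel₀ B.a0' (by linear_combination e4))⟩
  · exfalso
    have h1 := congrArg σ B.det
    rw [map_add, map_mul, map_mul, map_one] at h1
    have h2 : μ * ν = -(q * r) := by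
      linear_combination (-(μ * ν)) * h1 - q * r * B.det - (ν * σ a') * e1 - (b * r) * e4 - (ν * σ b') * e2 +
        (a * q) * e3
    have h3 : (2 : K) = 0 := by
      have h4 : μ ^ 3 * ν ^ 3 = -(q ^ 3 * r ^ 3) := by rw [← mul_pow, h2]; ring
      rw [hμ, hν, hq, hr] at h4
      exact mul_left_cancel₀ (mul_ne_zero h0 h0) (by linear_combination h4)
    obtain ⟨rfl, h5⟩ := B.two h3
    refine h5 (σ.injective (mul_left_cancel₀ h0 ?_))
    have h6 : b * r = μ * σ a := by linear_combination e1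
    have h7 : b * q = ν * σ a' := by linear_combination e4 + b * q * h3
    rw [map_pow, map_pow]
    calc κ * σ a ^ 3 = (b * r) ^ 3 := by rw [h6, mul_pow, hμ]
      _ = (b * q) ^ 3 := by rw [mul_pow, mul_pow, hq, hr]
      _ = κ * σ a' ^ 3 := by rw [h7, mul_pow, hν]

theorem hes_four {a b a' b' η η' : K} (B : Blk a b a' b') (hη : η ^ 3 ≠ 1) (σ : K →+* K)
    {M M₁ M₂ M₃ : Matrix (Fin 3) (Fin 3) K} (h : HesA M ∨ HesB M) (h₁ : HesA M₁ ∨ HesB M₁) (h₂ : HesA M₂ ∨ HesB M₂)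
    (h₃ : HesA M₃ ∨ HesB M₃) (e₁ : !![η, 0, 0; 0, η', 0; 0, 0, 1] * M₁ = M * (!![η, 0, 0; 0, η', 0; 0, 0, 1]).map σ)
    (e₂ : !![a, b, 0; -b', a', 0; 0, 0, 1] * M₂ = M * (!![a, b, 0; -b', a', 0; 0, 0, 1]).map σ)
    (e₃ : !![1, 0, 0; 0, a, b; 0, -b', a'] * M₃ = M * (!![1, 0, 0; 0, a, b; 0, -b', a']).map σ) :
    (∀ c, σ c = c) ∧ ∃ μ : K, M = μ • (1 : Matrix (Fin 3) (Fin 3) K) := by
  have x₁ := fun i j => congrFun (congrFun e₁ i) j
  have x₂ := fun i j => congrFun (congrFun e₂ i) j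
  have x₃ := fun i j => congrFun (congrFun e₃ i) j
  simp only [Matrix.mul_apply, Fin.sum_univ_three, Matrix.map_apply] at x₁ x₂ x₃
  rcases h with h | ⟨κ, π, h0, hπ, hκ, hz⟩
  · exfalso
    have y1 : η * M₁ 0 2 = M 0 2 := by simpa using x₁ 0 2
    have y2 : M₁ 2 2 = M 2 2 := by simpa using x₁ 2 2
    rcases h₁ with ⟨κ₁, -, h₁⟩ | ⟨κ₁, π, -, -, -, h₁⟩
    · obtain ⟨κ, h0, h⟩ := h
      apply hη
      apply mul_right_cancel₀ h0
      rw [one_mul]
      conv_lhs => rw [← h 2 2, ← y2, h₁, ← h₁ 0 2, ← mul_pow, y1, h]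
    · by_cases e : 2 = π 2
      · exact h.ne 0 2 (by rw [← y1, h₁ 0 2 (by rw [← e]; decide), mul_zero])
      · exact h.ne 2 2 (by rw [← y2, h₁ 2 2 e])
  have hne : ∀ n, M (π n) n ≠ 0 := fun n e => h0 (by rw [← hκ n, e]; ring)
  have p2 : π 2 = 2 := by
    by_contra e
    have y1 : M₂ 2 2 = 0 := by rw [← hz 2 2 (Ne.symm e)]; simpa using x₂ 2 2
    obtain ⟨κ', π', h0', -, hκ', hz'⟩ := h₂.resolve_left fun h => h.ne 2 2 y1
    have y2 : a * M₂ 0 2 + b * M₂ 1 2 = M 0 2 := by simpa using x₂ 0 2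
    have y3 : -(b' * M₂ 0 2) + a' * M₂ 1 2 = M 1 2 := by simpa using x₂ 1 2
    have y4 : M₂ (π' 2) 2 ≠ 0 := fun e => h0' (by rw [← hκ' 2, e]; ring)
    have y5 : M 0 2 = 0 ∨ M 1 2 = 0 := by
      by_cases e : 0 = π 2
      · exact Or.inr (hz 1 2 (by rw [← e]; decide))
      · exact Or.inl (hz 0 2 e)
    rcases (by decide : ∀ j : Fin 3, j = 0 ∨ j = 1 ∨ j = 2) (π' 2) with e' | e' | e' <;> rw [e'] at y4
    · rw [hz' 1 2 (by rw [e']; decide)] at y2 y3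
      rcases y5 with y5 | y5
      · exact mul_ne_zero B.a0 y4 (by linear_combination y2 + y5)
      · exact mul_ne_zero B.b0' y4 (by linear_combination -y3 - y5)
    · rw [hz' 0 2 (by rw [e']; decide)] at y2 y3
      rcases y5 with y5 | y5
      · exact mul_ne_zero B.b0 y4 (by linear_combination y2 + y5)
      · exact mul_ne_zero B.a0' y4 (by linear_combination y3 + y5)
    · exact y4 y1
  have p0 : π 0 = 0 := by
    by_contra e
    have y1 : M₃ 0 0 = 0 := by rw [← hz 0 0 (Ne.symm e)]; simpa using x₃ 0 0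
    obtain ⟨κ', π', h0', -, hκ', hz'⟩ := h₃.resolve_left fun h => h.ne 0 0 y1
    have y2 : a * M₃ 1 0 + b * M₃ 2 0 = M 1 0 := by simpa using x₃ 1 0
    have y3 : -(b' * M₃ 1 0) + a' * M₃ 2 0 = 0 := by
      rw [← hz 2 0 fun e => absurd (hπ (e.symm.trans p2.symm)) (by decide)]
      simpa using x₃ 2 0
    have y4 : M₃ (π' 0) 0 ≠ 0 := fun e => h0' (by rw [← hκ' 0, e]; ring)
    rcases (by decide : ∀ j : Fin 3, j = 0 ∨ j = 1 ∨ j = 2) (π' 0) with e' | e' | e' <;> rw [e'] at y4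
    · exact y4 y1
    · rw [hz' 2 0 (by rw [e']; decide)] at y3
      exact mul_ne_zero B.b0' y4 (by linear_combination -y3)
    · rw [hz' 1 0 (by rw [e']; decide)] at y3
      exact mul_ne_zero B.a0' y4 (by linear_combination y3)
  have pi : ∀ i, π i = i :=
    (by decide : ∀ π : Fin 3 → Fin 3, Function.Injective π → π 0 = 0 → π 2 = 2 → ∀ i, π i = i) π hπ p0 p2
  simp only [pi] at hκ hz hne
  have z01 := hz 0 1 (by decide)
  have z02 := hz 0 2 (by decide)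
  have z10 := hz 1 0 (by decide)
  have z12 := hz 1 2 (by decide)
  have z20 := hz 2 0 (by decide)
  have z21 := hz 2 1 (by decide)
  have k1 : (∀ c, σ c = c) ∧ M 0 0 = M 1 1 := by
    have y1 : M₂ 2 0 = 0 := by simpa [z20, z21] using x₂ 2 0
    have y2 : M₂ 2 2 = M 2 2 := by simpa using x₂ 2 2
    obtain ⟨κ', π', h0', hπ', hκ', hz'⟩ := h₂.resolve_left fun h => h.ne 2 0 y1
    have q2 : π' 2 = 2 := by
      by_contra e
      exact hne 2 (by rw [← y2, hz' 2 2 (Ne.symm e)])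
    obtain rfl : κ = κ' := by rw [← hκ' 2, q2, y2, hκ]
    refine B.key σ h0 (hκ 0) (hκ 1) (p := M₂ 0 0) (q := M₂ 0 1) (r := M₂ 1 0) (s := M₂ 1 1) ?_
      (by simpa [z01] using x₂ 0 0) (by simpa [z01] using x₂ 0 1) (by simpa [z10] using x₂ 1 0)
      (by simpa [z10] using x₂ 1 1)
    rcases (by decide : ∀ π : Fin 3 → Fin 3, Function.Injective π → π 2 = 2 →
      (π 0 = 0 ∧ π 1 = 1) ∨ (π 0 = 1 ∧ π 1 = 0)) π' hπ' q2 with ⟨a0, a1⟩ | ⟨a0, a1⟩
    · exact Or.inl ⟨hz' 0 1 (by rw [a1]; decide), hz' 1 0 (by rw [a0]; decide), by rw [← hκ' 0, a0], by rw [← hκ' 1, a1]⟩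
    · exact Or.inr ⟨hz' 0 0 (by rw [a0]; decide), hz' 1 1 (by rw [a1]; decide), by rw [← hκ' 1, a1], by rw [← hκ' 0, a0]⟩
  have k2 : (∀ c, σ c = c) ∧ M 1 1 = M 2 2 := by
    have y1 : M₃ 0 1 = 0 := by simpa [z01, z02] using x₃ 0 1
    have y2 : M₃ 0 0 = M 0 0 := by simpa using x₃ 0 0
    obtain ⟨κ', π', h0', hπ', hκ', hz'⟩ := h₃.resolve_left fun h => h.ne 0 1 y1
    have q0 : π' 0 = 0 := by
      by_contra e
      exact hne 0 (by rw [← y2, hz' 0 0 (Ne.symm e)])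
    obtain rfl : κ = κ' := by rw [← hκ' 0, q0, y2, hκ]
    refine B.key σ h0 (hκ 1) (hκ 2) (p := M₃ 1 1) (q := M₃ 1 2) (r := M₃ 2 1) (s := M₃ 2 2) ?_
      (by simpa [z12] using x₃ 1 1) (by simpa [z12] using x₃ 1 2) (by simpa [z21] using x₃ 2 1)
      (by simpa [z21] using x₃ 2 2)
    rcases (by decide : ∀ π : Fin 3 → Fin 3, Function.Injective π → π 0 = 0 →
      (π 1 = 1 ∧ π 2 = 2) ∨ (π 1 = 2 ∧ π 2 = 1)) π' hπ' q0 with ⟨a0, a1⟩ | ⟨a0, a1⟩
    · exact Or.inl ⟨hz' 1 2 (by rw [a1]; decide), hz' 2 1 (by rw [a0]; decide), by rw [← hκ' 1, a0], by rw [← hκ' 2, a1]⟩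
    · exact Or.inr ⟨hz' 1 1 (by rw [a0]; decide), hz' 2 2 (by rw [a1]; decide), by rw [← hκ' 2, a1], by rw [← hκ' 1, a0]⟩
  refine ⟨k1.1, M 0 0, ?_⟩
  ext i j
  fin_cases i <;> fin_cases j <;> simp [z01, z02, z10, z12, z20, z21, ← k2.2, ← k1.2]

/-- the cube of a generator generates the field -/
theorem fix_cube [Finite K] (hK : Nat.card K ≠ 4) {γ : K} (hγ : ∀ x, x ≠ 0 → ∃ k : ℕ, x = γ ^ k) (σ : K →+* K)
    (h : σ (γ ^ 3) = γ ^ 3) (c : K) : σ c = c := by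
  let K₀ : Subfield K := σ.eqLocusField (RingHom.id K)
  have h1 : Nat.card K ≤ 3 * (Nat.card K₀ - 1) + 1 := by
    have h2 : Nat.card Kˣ ≤ Nat.card (Fin 3 × K₀ˣ) := by
      by_cases h0 : γ = 0
      · have h3 : Subsingleton Kˣ := ⟨fun x y => by
          have h4 : ∀ x : Kˣ, x = 1 := fun x => by
            obtain ⟨k, hk⟩ := hγ x x.ne_zero
            rcases k with _ | k
            · exact Units.ext (by simpa using hk)
            · simp [h0] at hk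
          rw [h4 x, h4 y]⟩
        exact Nat.card_le_card_of_surjective (fun _ => 1) fun x => ⟨(0, 1), Subsingleton.elim _ _⟩
      refine Nat.card_le_card_of_surjective
        (fun p => Units.mk0 γ h0 ^ (p.1 : ℕ) * Units.map K₀.subtype.toMonoidHom p.2) fun x => ?_
      obtain ⟨k, hk⟩ := hγ x x.ne_zero
      have h3 : (γ ^ 3) ^ (k / 3) ∈ K₀ := pow_mem (show γ ^ 3 ∈ K₀ from h) _
      refine ⟨(⟨k % 3, Nat.mod_lt _ (by norm_num)⟩, Units.mk0 ⟨_, h3⟩ fun e =>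
        pow_ne_zero _ (pow_ne_zero 3 h0) (congrArg Subtype.val e)), Units.ext ?_⟩
      show γ ^ (k % 3) * (γ ^ 3) ^ (k / 3) = x
      rw [← pow_mul, ← pow_add, Nat.mod_add_div, hk]
    rw [Nat.card_prod, Nat.card_units, Nat.card_units, Nat.card_eq_fintype_card (α := Fin 3), Fintype.card_fin] at h2
    omega
  have h2 : Nat.card K = Nat.card K₀ ^ Module.finrank K₀ K := Module.natCard_eq_pow_finrank
  have h3 : 2 ≤ Nat.card K₀ := Finite.one_lt_card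
  have h4 : 0 < Module.finrank K₀ K := Module.finrank_pos
  have h5 : Module.finrank K₀ K = 1 := by
    by_contra e
    have h6 : Nat.card K₀ ^ 2 ≤ Nat.card K := by rw [h2]; exact Nat.pow_le_pow_right (by omega) (by omega)
    obtain ⟨m, hm⟩ : ∃ m, Nat.card K₀ = m + 2 := ⟨Nat.card K₀ - 2, by omega⟩
    rw [hm] at h1 h6
    have h7 : m + 2 - 1 = m + 1 := rfl
    rw [h7] at h1
    have h8 : m = 0 := by nlinarith
    subst h8
    omega
  rw [h5, pow_one] at h2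
  have h6 : K₀.toAddSubgroup = ⊤ := AddSubgroup.eq_top_of_card_eq _ h2.symm
  have h7 : c ∈ K₀.toAddSubgroup := by rw [h6]; exact AddSubgroup.mem_top c
  exact h7

end Cfsg.Agent.SB.Tor
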